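import Mathlib
import Cfsg.Agent.Ch.SpcSub
import Cfsg.Agent.Ch.SpcSyl
import Cfsg.Agent.Inv.SixExt

/-!
A self-centralizing Sylow subgroup of order nine with semidihedral automizer: the basic data.
-/

set_option autoImplicit false
set_option maxRecDepth 100000

namespace Cfsg.Agent.N16

open Subgroup Cfsg.Agent.Ch.Spc Cfsg.Agent.Inv.Six

universe u
variable {G : Type u} [Group G]

/-- The basic data. -/
structure Dat (g h t s ρ : G) : Prop where
  sx : Sx t g
  ss : s * s = 1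
  ρρ : ρ * ρ = 1
  st : Commute s t
  sg : r s g = g⁻¹
  ρt : r ρ t = s
  ρg : r ρ g = h
  gh : Commute g h
  ρc : IsConj t ρ
  ρz : t * ρ * (t * ρ) = s * t
  key : ∀ e x : G, In e → orderOf x = 3 → Commute x e → ∃ w, r w t = e ∧ r w g = x
  noM : ∀ L : Subgroup G, IsPGroup 2 L → (∀ a ∈ L, r g a ∈ L) → (∀ a ∈ L, r h a ∈ L) → L = ⊥
  syl : ∀ L : Subgroup G, IsPGroup 2 L → L ≠ ⊥ → ¬ 9 ∣ Nat.card (normalizer (L : Set G))
  el : ∀ x : G, ∀ n : ℕ, x ^ 3 ^ n = 1 → x ^ 3 = 1
  sd : ∃ Q : Subgroup G, Nat.card Q = 16 ∧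
    (¬ IsConj t (s * t) → {y | IsConj t y ∧ y ∈ Q}.ncard = 4)

theorem std_S16 : Std [((TG.of 1 : ES16), TG.of 6), (TG.of 4, TG.of 6)]
    [[true, true], [true, false, true, false, false, false, false, false],
    [false, false, false, false, false, false, false, false]] [[false, false, false, false]] [] := by
  decide +kernel

theorem emb_S16 [Finite G] {T : Subgroup G} (hT : Nine T) {X : Type*} [Group X] {f : X →* G}
    (hf : Sec T f) (hX : Nat.card X = 16) {a b : X} (ha : orderOf a = 8) (hb : orderOf b = 2)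
    (hab : b * a * b⁻¹ = a ^ 3) :
    ∃ φ : SD V2 ES16 →* G, Emb φ ∧ φ.range = normalizer (T : Set G) ∧
      (φ.comp SD.inl).range = T := by
  have h8 : a ^ 8 = 1 := ha ▸ pow_orderOf_eq_one a
  have h2 : b * b = 1 := by rw [← pow_two, ← hb, pow_orderOf_eq_one]
  refine hT.exists_emb hf std_S16 (gen_of_words ((List.range 8).flatMap fun i =>
    [List.replicate i false, true :: List.replicate i false]) (by decide +kernel))
    (by decide +kernel) (by decide +kernel) (by rw [hX]; rfl) a b ?_ ?_ (by simp)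
  · have e : b * (a * (b * (a * (a * (a * (a * a)))))) = 1 := by
      rw [inv_eq_of_mul_eq_one_right h2] at hab
      calc _ = b * a * b * a ^ 5 := by simp only [pow_succ, pow_zero, one_mul, mul_assoc]
        _ = 1 := by rw [hab, ← pow_add, h8]
    have e8 : a * (a * (a * (a * (a * (a * (a * a)))))) = 1 := by
      simpa only [pow_succ, pow_zero, one_mul, mul_assoc] using h8
    simp [evG, h2, e, e8]
  · have e4 : a * (a * (a * a)) ≠ 1 := fun e => by
      have := orderOf_dvd_of_pow_eq_one (show a ^ 4 = 1 by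
        simpa only [pow_succ, pow_zero, one_mul, mul_assoc] using e)
      rw [ha] at this
      omega
    simpa [evG] using e4

/-- Elements of the model. -/
def g0 : SD V2 ES16 := ⟨(1, 0), 1⟩
/-- Elements of the model. -/
def h0 : SD V2 ES16 := ⟨(1, 1), 1⟩
/-- Elements of the model. -/
def t0 : SD V2 ES16 := ⟨0, TG.of 6⟩
/-- Elements of the model. -/
def s0 : SD V2 ES16 := ⟨0, TG.of 14⟩
/-- Elements of the model. -/
def ρ0 : SD V2 ES16 := ⟨0, TG.of 5⟩

theorem m_cen : ∀ m : SD V2 ES16, m * g0 = g0 * m → m * t0 = t0 * m →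
    (m = 1 ∨ m = g0 ∨ m = g0 * g0) ∨ (m * t0 = 1 ∨ m * t0 = g0 ∨ m * t0 = g0 * g0) := by
  decide +kernel

theorem m_tr : ∀ v : V2, v ≠ 0 → ∃ n : SD V2 ES16, n * g0 * n⁻¹ = ⟨v, 1⟩ := by
  decide +kernel

theorem m_inv : ∀ m : SD V2 ES16, m * g0 = g0 * m → m * m = 1 → m ≠ 1 →
    ∃ n : SD V2 ES16, n * g0 * n⁻¹ = g0 ∧ n * t0 * n⁻¹ = m := by
  decide +kernel

theorem m_three : ∀ v : V2, (⟨v, 1⟩ : SD V2 ES16) ^ 3 = 1 := by
  decide +kernel

theorem m_gen : ∀ v : V2, ∃ i < 3, ∃ j < 3, (⟨v, 1⟩ : SD V2 ES16) = g0 ^ i * h0 ^ j := by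
  decide +kernel

theorem m_Q : ∀ e : ES16, e * e = 1 → e = 1 ∨ (⟨0, e⟩ : SD V2 ES16) = s0 * t0 ∨
    e = TG.of 6 ∨ e = TG.of 14 ∨ e = TG.of 5 ∨ e = TG.of 11 := by
  decide +kernel

theorem m_conj : ∀ e : ES16, e = TG.of 6 ∨ e = TG.of 14 ∨ e = TG.of 5 ∨ e = TG.of 11 →
    ∃ n : SD V2 ES16, n * t0 * n⁻¹ = ⟨0, e⟩ := by
  decide +kernel

theorem exists_dat [Finite G] (M : Sylow 3 G) {φ : SD V2 ES16 →* G} (hφ : Emb φ)
    (hM : (φ.comp SD.inl).range = M) : Dat (φ g0) (φ h0) (φ t0) (φ s0) (φ ρ0) := by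
  have inj := hφ.inj
  have rr : ∀ a b c : SD V2 ES16, a * b * a⁻¹ = c → r (φ a) (φ b) = φ c := fun a b c e => by
    rw [r_def, ← map_inv, ← map_mul, ← map_mul, e]
  have cen : ∀ k : G, Commute k (φ g0) → ∃ m, φ m = k ∧ m * g0 = g0 * m := fun k hk => by
    obtain ⟨m, rfl⟩ := hφ.ti (1, 0) (by decide) k ⟨g0, by
      change _ = k * φ g0 * k⁻¹
      rw [hk.eq, mul_inv_cancel_right]⟩
    exact ⟨m, rfl, inj (by rw [map_mul, map_mul, hk.eq])⟩
  have og : orderOf (φ g0) = 3 := by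
    rw [orderOf_injective φ inj]
    exact orderOf_eq_prime (by decide +kernel) (by decide +kernel)
  have it : In (φ t0) := ⟨by rw [← map_mul, show t0 * t0 = 1 by decide +kernel, map_one],
    fun e => absurd (inj (e.trans (map_one φ).symm)) (by decide +kernel)⟩
  have c3 : ∀ x : G, ∀ n : ℕ, x ^ 3 ^ n = 1 → ∃ k v, r k (φ ⟨v, 1⟩) = x := fun x n hx => by
    have h1 : IsPGroup 3 (zpowers x) := by
      rintro ⟨_, k, rfl⟩
      refine ⟨n, Subtype.ext ?_⟩
      change (x ^ k) ^ 3 ^ n = 1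
      rw [← zpow_natCast, ← zpow_mul, mul_comm k, zpow_mul, zpow_natCast, hx, one_zpow]
    obtain ⟨P, hP⟩ := h1.exists_le_sylow
    obtain ⟨k, rfl⟩ := MulAction.exists_smul_eq G M P
    obtain ⟨y, hy, e⟩ := (mem_smul_pointwise_iff_exists _ _ _).1 (hP (mem_zpowers x))
    obtain ⟨v, rfl⟩ := mem_range_inl.1 (hM ▸ hy)
    exact ⟨k, v, e⟩
  have el : ∀ x : G, ∀ n : ℕ, x ^ 3 ^ n = 1 → x ^ 3 = 1 := fun x n hx => by
    obtain ⟨k, v, rfl⟩ := c3 x n hx
    rw [← map_pow, ← map_pow, m_three, map_one, map_one]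
  have bot : ∀ L : Subgroup G, IsPGroup 2 L → (M : Subgroup G) ≤ normalizer (L : Set G) → L = ⊥ :=
    fun L hL hN => hφ.eq_bot (by decide +kernel) (hM ▸ hN) fun v hv => by
      have h1 := (Two.of_mem hL hv).eq_one (by rw [← map_pow, m_three, map_one]) (mem_zpowers _)
      by_contra h0
      exact hφ.ne_one h0 h1
  refine ⟨⟨it, og, ?_, fun k h1 h2 => ?_⟩, ?_, ?_, ?_, ?_, rr _ _ _ (by decide +kernel),
    rr _ _ _ (by decide +kernel), ?_, ?_, ?_, fun e x he hx c => ?_, fun L hL h1 h2 => ?_,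
    fun L hL h1 h2 => ?_, el, ?_⟩
  · exact (show Commute g0 t0 from (by decide +kernel : g0 * t0 = t0 * g0)).map φ
  · obtain ⟨m, rfl, hm⟩ := cen k h2
    have z : ∀ n, n = 1 ∨ n = g0 ∨ n = g0 * g0 → φ n ∈ zpowers (φ g0) := by
      rintro _ (rfl | rfl | rfl)
      · rw [map_one]; exact one_mem _
      · exact mem_zpowers _
      · rw [map_mul]; exact mul_mem (mem_zpowers _) (mem_zpowers _)
    rw [← map_mul]
    exact (m_cen m hm (inj (by rw [map_mul, map_mul, h1.eq]))).imp (z _) (z _)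
  · rw [← map_mul, show s0 * s0 = 1 by decide +kernel, map_one]
  · rw [← map_mul, show ρ0 * ρ0 = 1 by decide +kernel, map_one]
  · exact (show Commute s0 t0 from (by decide +kernel : s0 * t0 = t0 * s0)).map φ
  · rw [← map_inv]; exact rr _ _ _ (by decide +kernel)
  · exact (show Commute g0 h0 from (by decide +kernel : g0 * h0 = h0 * g0)).map φ
  · obtain ⟨n, hn⟩ := m_conj (TG.of 5) (by simp)
    exact isConj_iff.2 ⟨φ n, rr _ _ _ hn⟩
  · simp only [← map_mul]
    exact congrArg φ (by decide +kernel)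
  · obtain ⟨k, v, rfl⟩ := c3 x 1 (by rw [pow_one, ← hx, pow_orderOf_eq_one])
    obtain ⟨n, hn⟩ := m_tr v (by
      rintro rfl
      rw [show (⟨0, 1⟩ : SD V2 ES16) = 1 from rfl, map_one, map_one, orderOf_one] at hx
      omega)
    rw [← rr _ _ _ hn, r_r] at c ⊢
    generalize k * φ n = k at c ⊢
    obtain ⟨m, hm, hm'⟩ := cen (r k⁻¹ e) (by rw [← r_commute k, r_r_inv]; exact c.symm)
    have i2 := he.map (r k⁻¹)
    rw [← hm] at i2
    obtain ⟨n, n1, n2⟩ := m_inv m hm' (inj (by rw [map_mul, i2.1, map_one]))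
      fun e => i2.2 (by rw [e, map_one])
    exact ⟨k * φ n, by rw [← r_r, rr _ _ _ n2, hm, r_r_inv], by rw [← r_r, rr _ _ _ n1]⟩
  · refine bot L hL fun x hx => ?_
    obtain ⟨v, rfl⟩ := mem_range_inl.1 (hM ▸ hx)
    obtain ⟨i, -, j, -, e⟩ := m_gen v
    rw [e, map_mul, map_pow, map_pow]
    exact mul_mem (pow_mem (mem_normalizer_fintype h1) i) (pow_mem (mem_normalizer_fintype h2) j)
  · obtain ⟨K, hK⟩ := Sylow.exists_subgroup_card_pow_prime 3 (n := 2) h2
    have hK2 : IsPGroup 3 (K.map (normalizer (L : Set G)).subtype) := (IsPGroup.of_card hK).map _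
    obtain ⟨P, hP⟩ := hK2.exists_le_sylow
    obtain ⟨k, rfl⟩ := MulAction.exists_smul_eq G M P
    have e : K.map (normalizer (L : Set G)).subtype = (k • M : Sylow 3 G) :=
      eq_of_le_of_card_ge hP (by
        rw [card_map_of_injective (subtype_injective _), hK,
          ← Nat.card_congr (M.equiv (k • M)).toEquiv, ← hM, card_range_inl inj]
        rfl)
    have h3 := bot (L.map (r k⁻¹).toMonoidHom) (hL.map _) fun x hx => mem_normalizer_fintype (by
      rintro _ ⟨a, ha, rfl⟩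
      have h4 : r k x ∈ normalizer (L : Set G) := map_subtype_le K (e ▸ smul_mem_pointwise_smul _ _ _ hx)
      refine ⟨_, (mem_normalizer_iff.1 h4 a).1 ha, ?_⟩
      change r _ _ = x * r _ a * x⁻¹
      simp only [r_def]; group)
    exact h1 ((map_eq_bot_iff_of_injective _ (r k⁻¹).injective).1 h3)
  · have i2 : Function.Injective (φ.comp SD.inr) := fun a b e => congrArg SD.e (inj e)
    refine ⟨(φ.comp SD.inr).range, ?_, fun hn => ?_⟩
    · rw [← Nat.card_congr (MonoidHom.ofInjective i2).toEquiv, Nat.card_eq_fintype_card]; rfl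
    have e : {y | IsConj (φ t0) y ∧ y ∈ (φ.comp SD.inr).range} = (φ.comp SD.inr) ''
        (({TG.of 6, TG.of 14, TG.of 5, TG.of 11} : Finset ES16) : Set ES16) := by
      ext y
      constructor
      · rintro ⟨h1, e, rfl⟩
        obtain ⟨c, hc⟩ := isConj_iff.1 h1
        have i3 : In ((φ.comp SD.inr) e) := hc ▸ it.map (r c)
        refine ⟨e, ?_, rfl⟩
        rcases m_Q e (i2 (by rw [map_mul, i3.1, map_one])) with h2 | h2 | h2
        · exact absurd (by rw [h2, map_one]) i3.2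
        · exact absurd (by rw [← map_mul, ← h2]; exact h1) hn
        · simpa using h2
      · rintro ⟨e, he, rfl⟩
        obtain ⟨n, hn⟩ := m_conj e (by simpa using he)
        exact ⟨isConj_iff.2 ⟨φ n, rr _ _ _ hn⟩, e, rfl⟩
    rw [e, Set.ncard_image_of_injective _ i2, Set.ncard_coe_finset]
    decide +kernel

end Cfsg.Agent.N16
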