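import Mathlib
import Cfsg.Agent.Inv.SixExt
import Cfsg.Agent.FG.ZLPar

/-!
An involution inverting an element of order three which acts on a `2`-group with fixed points
of order two.
-/

set_option autoImplicit false

namespace Cfsg.Agent.N16

open Subgroup Cfsg.Agent.Inv.Six Cfsg.Agent.Ch.FT3
open scoped commutatorElement

universe u
variable {G : Type u} [Group G]

theorem r_one (a : G) : r 1 a = a := by simp [r_def]

theorem r_fix {u a : G} (h : Commute u a) : r u a = a := r_eq_iff.2 h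

theorem r_inv_self {s : G} (hs : s * s = 1) (a : G) : r s (r s a) = a := by
  rw [r_r, hs, r_one]

theorem isConj_r (g a : G) : IsConj a (r g a) := isConj_iff.2 ⟨g, rfl⟩

theorem isConj_of_r {g a b : G} (h : r g a = b) : IsConj a b := h ▸ isConj_r g a

theorem In.conj {a b : G} (h : In a) (hc : IsConj a b) : In b := by
  obtain ⟨c, rfl⟩ := isConj_iff.1 hc
  exact h.map (r c)

theorem cyc {u a : G} {k : ℕ} (h : r u (r u (r u a)) = a) (hk : k % 3 = 1) :
    r (u ^ k) a = r u a := by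
  rw [r_r, r_r, ← pow_three', r_eq_iff] at h
  rw [← Nat.mod_add_div k 3, hk, pow_add, pow_one, pow_mul, ← r_r, r_fix (h.pow_left _)]

theorem Zsq {t v : G} (ht : t * t = 1) (hv : v ∈ zpowers t) : v * v = 1 := by
  rcases (mem_Z ht).1 hv with rfl | rfl <;> simp [ht]

theorem Zinv {t v : G} (ht : t * t = 1) (hv : v ∈ zpowers t) : v⁻¹ = v :=
  inv_eq_of_mul_eq_one_right (Zsq ht hv)

/-- The subgroup generated by three elements. -/
def K4 (t p q : G) : Subgroup G := zpowers t ⊔ zpowers p ⊔ zpowers q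

theorem K4_1 (t p q : G) : t ∈ K4 t p q := mem_sup_left (mem_sup_left (mem_zpowers t))

theorem K4_2 (t p q : G) : p ∈ K4 t p q := mem_sup_left (mem_sup_right (mem_zpowers p))

theorem K4_3 (t p q : G) : q ∈ K4 t p q := mem_sup_right (mem_zpowers q)

theorem K4_le {t p q : G} {A : Subgroup G} (h1 : t ∈ A) (h2 : p ∈ A) (h3 : q ∈ A) :
    K4 t p q ≤ A := sup_le (sup_le (zpowers_le.2 h1) (zpowers_le.2 h2)) (zpowers_le.2 h3)

theorem Z_le_K4 (t p q : G) : zpowers t ≤ K4 t p q := zpowers_le.2 (K4_1 t p q)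

section
variable [Finite G]

theorem norm_Z {t p : G} (h : Commute p t) : p ∈ normalizer (zpowers t : Set G) :=
  mem_normalizer_fintype (rZ h)

theorem norm_K2 {t p q : G} (hp : Commute p t) (hq : Commute q t) (h1 : p * p ∈ zpowers t)
    (h3 : ⁅q, p⁆ ∈ zpowers t) : q ∈ normalizer ((zpowers t ⊔ zpowers p : Subgroup G) : Set G) :=
  mem_normalizer_fintype fun n hn => by
    rcases (FG.ZL.mem_ext (norm_Z hp) h1).1 hn with h | h
    · exact mem_sup_left (rZ hq _ h)
    · have e : q * n * q⁻¹ = (⁅q, p⁆ * p)⁻¹ * r q (p * n) := by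
        simp only [r_def, commutatorElement_def]; group
      exact e ▸ mul_mem (inv_mem (mul_mem (mem_sup_left h3) (mem_sup_right (mem_zpowers p))))
        (mem_sup_left (rZ hq _ h))

theorem mem_K2 {t p x : G} (hp : Commute p t) (h1 : p * p ∈ zpowers t)
    (hx : x ∈ zpowers t ⊔ zpowers p) : x ∈ zpowers t ∨ Cg (zpowers t) x p :=
  ((FG.ZL.mem_ext (norm_Z hp) h1).1 hx).imp_right fun h => by
    have := mul_mem (inv_mem h1) h
    rwa [show (p * p)⁻¹ * (p * x) = p⁻¹ * x by group] at this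

theorem mem_K4 {t p q x : G} (hp : Commute p t) (hq : Commute q t) (h1 : p * p ∈ zpowers t)
    (h2 : q * q ∈ zpowers t) (h3 : ⁅q, p⁆ ∈ zpowers t) (hx : x ∈ K4 t p q) :
    x ∈ zpowers t ∨ Cg (zpowers t) x p ∨ Cg (zpowers t) x q ∨ Cg (zpowers t) x (p * q) := by
  rcases (FG.ZL.mem_ext (norm_K2 hp hq h1 h3) (mem_sup_left h2)).1 hx with h | h
  · exact (mem_K2 hp h1 h).imp_right Or.inl
  rcases mem_K2 hp h1 h with h | h
  · have := mul_mem (inv_mem h2) h
    rw [show (q * q)⁻¹ * (q * x) = q⁻¹ * x by group] at this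
    exact Or.inr (Or.inr (Or.inl this))
  · refine Or.inr (Or.inr (Or.inr ?_))
    have e : (p * q)⁻¹ * x =
        q⁻¹ * (p⁻¹ * (q⁻¹ * ⁅q, p⁆⁻¹ * q) * p) * q * (q * q)⁻¹ * (p⁻¹ * (q * x)) := by
      rw [commutatorElement_def]; group
    rw [Cg, e]
    exact mul_mem (mul_mem (nZ hq _ (nZ hp _ (nZ hq _ (inv_mem h3)))) (inv_mem h2)) h

theorem mem_E8 {t p q x : G} (ht : t * t = 1) (hp : Commute p t) (hq : Commute q t) (h1 : p * p = 1)
    (h2 : q * q = 1) (h3 : Commute q p) (hx : x ∈ K4 t p q) :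
    (x = 1 ∨ x = t) ∨ (x = p ∨ x = p * t) ∨ (x = q ∨ x = q * t) ∨ (x = p * q ∨ x = p * q * t) :=
  (mem_K4 hp hq (h1 ▸ one_mem _) (h2 ▸ one_mem _)
    (commutatorElement_eq_one_iff_commute.2 h3 ▸ one_mem _) hx).imp (mem_Z ht).1
    (Or.imp (Cg.cases ht) (Or.imp (Cg.cases ht) (Cg.cases ht)))

theorem mem_E4 {t p x : G} (ht : t * t = 1) (hp : Commute p t) (h1 : p * p = 1)
    (hx : x ∈ zpowers t ⊔ zpowers p) : (x = 1 ∨ x = t) ∨ (x = p ∨ x = p * t) :=
  (mem_K2 hp (h1 ▸ one_mem _) hx).imp (mem_Z ht).1 (Cg.cases ht)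

theorem three_part (el : ∀ x : G, ∀ n : ℕ, x ^ 3 ^ n = 1 → x ^ 3 = 1) (u : G) :
    ∃ k, k % 3 = 1 ∧ (u ^ k) ^ 3 = 1 := by
  obtain ⟨i, m, hm, e⟩ := Nat.exists_eq_pow_mul_and_not_dvd (orderOf_pos u).ne' 3 (by norm_num)
  have h1 := el (u ^ m) i (by rw [← pow_mul, mul_comm, ← e, pow_orderOf_eq_one])
  refine ⟨m * m, ?_, by rw [pow_mul, ← pow_mul, mul_comm, pow_mul, h1, one_pow]⟩
  have : m % 3 = 1 ∨ m % 3 = 2 := by omega
  rcases this with h | h <;> simp [Nat.mul_mod, h]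

end

/-- The configuration with an inverting involution. -/
structure Ts (t g s : G) (R : Subgroup G) : Prop extends Tr t g R where
  ss : s * s = 1
  st : Commute s t
  sg : r s g = g⁻¹
  ns : ∀ a ∈ R, r s a ∈ R

namespace Ts
variable {t g s : G} {R : Subgroup G} (T : Ts t g s R)
include T

theorem s_g (a : G) : r s (r g a) = r g (r g (r s a)) := by
  have h1 : s * g = g * g * s := by
    have h2 : g * g = g⁻¹ := eq_inv_of_mul_eq_one_left (by rw [← pow_three', T.x3])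
    rw [h2, ← T.sg, r_def]; group
  rw [r_r, h1, r_r, r_r]

theorem s_gg (a : G) : r s (r g (r g a)) = r g (r s a) := by
  rw [T.s_g, T.s_g, T.rrr]

theorem sub {A : Subgroup G} (h1 : A ≤ R) (h2 : t ∈ A) (h3 : ∀ a ∈ A, r g a ∈ A)
    (h4 : ∀ a ∈ A, r s a ∈ A) : Ts t g s A :=
  ⟨⟨T.pg.to_le h1, h2, T.zz, T.z1, fun a ha => T.cz a (h1 ha), T.x3, T.xz, h3,
    fun a ha => T.fx a (h1 ha)⟩, T.ss, T.st, T.sg, h4⟩

variable [Finite G]

/-- Involutions in the coset of `s`. -/
theorem conj_out {d : G} (hd : d ∈ R) (h : s * d * (s * d) = 1) :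
    IsConj s (s * d) ∨ IsConj (s * t) (s * d) := by
  have si := inv_eq_of_mul_eq_one_right T.ss
  have h1 : r s d = d⁻¹ := by
    rw [r_def, si]; exact eq_inv_of_mul_eq_one_left (by rw [← h]; group)
  obtain ⟨v, hv, e⟩ := (T.rr_cg hd).ex
  have h2 : r s (r g d) = v⁻¹ * (d * r g d) := by
    rw [T.s_g, h1, map_inv, map_inv, e, mul_inv_rev, inv_inv]
  have h3 : r (r g d) s = s * v⁻¹ * d := by
    calc _ = s⁻¹ * r s (r g d) * (s * s) * (r g d)⁻¹ := by simp only [r_def]; group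
      _ = _ := by rw [h2, T.ss, si]; group
  rcases (mem_Z T.zz).1 hv with rfl | rfl
  · exact Or.inl (isConj_of_r (by simpa using h3))
  · refine Or.inr (isConj_of_r (g := r g d) ?_)
    rw [map_mul, h3, r_fix (T.cz _ (T.nx d hd)), mul_assoc, mul_assoc, (T.cz d hd).eq,
      inv_mul_cancel_left]

theorem inverts {c : G} (hc : c ∈ R) (h1 : Cg (zpowers t) (r s c) c) (h2 : c * c ∈ zpowers t) :
    r s c = c⁻¹ := by
  obtain ⟨v, hv, e⟩ := h1.ex
  have hn := T.norm hc
  have gv := r_fix (commute_Z T.xz hv)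
  have h3 := r_fix (commute_Z T.st hn)
  have h4 : r g c * r g c = c * c := by rw [← map_mul, r_fix (commute_Z T.xz h2)]
  have h5 : r g (r g c) * r g (r g c) = c * c := by
    rw [← map_mul, h4, r_fix (commute_Z T.xz h2)]
  rw [map_mul, map_mul, T.s_gg, T.s_g, e] at h3
  simp only [map_mul, gv] at h3
  have h1' := T.nx c hc
  have h2' := T.nx _ h1'
  have c0 := (commute_Z (T.cz _ hc) hv).eq
  have c1 := (commute_Z (T.cz _ h1') hv).eq
  have c2 := (commute_Z (T.cz _ h2') hv).eq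
  have vv := Zsq T.zz hv
  have h6 : r g (r g c) * r g c * v = r g c * r g (r g c) := by
    refine mul_left_cancel (a := c) ?_
    calc _ = c * r g (r g c) * (v * v) * (r g c * v) := by rw [vv]; group
      _ = c * (r g (r g c) * v) * v * (r g c * v) := by group
      _ = c * v * (r g (r g c) * v) * (r g c * v) := by rw [c2]; nth_rewrite 2 [← c2]; group
      _ = _ := by rw [h3]; group
  have h7 := congrArg (fun x => r g (r g x)) h6
  simp only [map_mul, gv, T.rrr] at h7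
  generalize r g (r g c) = c'' at *
  generalize r g c = c' at *
  have n0 := (commute_Z (T.cz _ hc) hn).eq
  have n1 := (commute_Z (T.cz _ h1') hn).eq
  have nn := Zsq T.zz hn
  have q1 := (commute_Z (T.cz _ h1') h2).eq
  have qq := Zsq T.zz h2
  have e2 : c'' = (c * c')⁻¹ * (c * c' * c'') := by group
  generalize c * c' * c'' = n at *
  have h8 : c * c' * (c * c') = v := by
    calc _ = c * (c' * c * v) * v⁻¹ * c' := by group
      _ = c * c * (c' * v⁻¹) * c' := by rw [h7]; group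
      _ = c * c * c' * (v * c') := by rw [Zinv T.zz hv]; group
      _ = c * c * (c' * c') * v := by rw [← c1]; group
      _ = v := by rw [h4, qq, one_mul]
  have h9 : c * c = v := by
    have cn : Commute (c * c')⁻¹ n := ((show Commute c n from n0).mul_left n1).inv_left
    rw [← h5, e2, cn.symm.mul_mul_mul_comm, nn, mul_one, ← mul_inv_rev, h8, Zinv T.zz hv]
  rw [e, ← h9]
  exact eq_inv_of_mul_eq_one_left (by rw [← qq]; group)

theorem comm_of_inv {c : G} (hc : c ∈ R) (h1 : Cg (zpowers t) (r s c) c) (h2 : c * c = 1) :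
    Commute s c := by
  rw [← r_eq_iff, T.inverts hc h1 (h2 ▸ one_mem _), inv_eq_of_mul_eq_one_right h2]

theorem gen {A : Subgroup G} (h1 : t ∈ A)
    (h2 : ∀ c ∈ R, Cg (zpowers t) (r s c) c → c ∈ A ∧ r g c ∈ A) : R ≤ A := by
  intro a ha
  have ZA : zpowers t ≤ A := zpowers_le.2 h1
  have hd : a⁻¹ * r s a ∈ R := mul_mem (inv_mem ha) (T.ns a ha)
  have sd : r s (a⁻¹ * r s a) = (a⁻¹ * r s a)⁻¹ := by
    rw [map_mul, map_inv, r_inv_self T.ss, mul_inv_rev, inv_inv]
  have sa : r s a = a * (a⁻¹ * r s a) := by group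
  generalize a⁻¹ * r s a = d at hd sd sa
  have he := T.nx d hd
  have he' := T.nx _ he
  have s1 : r s (r g d) = (r g (r g d))⁻¹ := by rw [T.s_g, sd, map_inv, map_inv]
  have s2 : r s (r g (r g d)) = (r g d)⁻¹ := by rw [T.s_gg, sd, map_inv]
  have hn := T.norm hd
  have hb := T.br_self he
  have g3 := T.rrr d
  generalize hE' : r g (r g d) = e' at *
  generalize hE : r g d = e at *
  have k1 := (h2 (a * e'⁻¹) (mul_mem ha (inv_mem he')) (by
    rw [Cg, map_mul, map_inv, s2, sa, inv_inv,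
      show (a * e'⁻¹)⁻¹ * (a * d * e) = e'⁻¹⁻¹ * (d * e * e') * e'⁻¹ by group]
    exact nZ (T.cz _ he').inv_left _ hn)).1
  have k2 := h2 (e * e'⁻¹) (mul_mem he (inv_mem he')) (by
    rw [Cg, map_mul, map_inv, s1, s2, inv_inv,
      show (e * e'⁻¹)⁻¹ * (e'⁻¹ * e) = e⁻¹ * ⁅e, e'⁆ * e by rw [commutatorElement_def]; group]
    exact nZ (T.cz _ he) _ hb)
  have k3 := mul_mem k2.2 (inv_mem k2.1)
  rw [map_mul, map_inv, hE', g3] at k3
  have c1 := (commute_Z (T.cz _ he') hb).eq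
  have c2 := (commute_Z (T.cz _ (mul_mem he' (inv_mem he))) (inv_mem hn)).eq
  have e3 : e' * d⁻¹ * (e * e'⁻¹)⁻¹ = e' ^ 3 * (⁅e, e'⁆ * ⁅e, e'⁆ * (d * e * e')⁻¹) := by
    calc _ = e' * e * e' * ((d * e * e')⁻¹ * (e' * e⁻¹)) := by group
      _ = e' * (⁅e, e'⁆ * e' * (⁅e, e'⁆ * e')) * (d * e * e')⁻¹ := by
          rw [← c2, commutatorElement_def]; group
      _ = _ := by
          rw [← c1, (commute_Z (T.cz _ he') hb).symm.mul_mul_mul_comm, pow_three]
          simp only [mul_assoc]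
  rw [e3, mul_mem_cancel_right (ZA (mul_mem (mul_mem hb hb) (inv_mem hn)))] at k3
  obtain ⟨n, hn'⟩ := T.pow he'
  have k4 : e' ∈ A := mem_of_coprime (Nat.Coprime.pow_left n (show Nat.Coprime 2 3 by norm_num))
    (hn' ▸ one_mem A) k3
  simpa using mul_mem k1 k4

end Ts

end Cfsg.Agent.N16
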