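import Mathlib
import Cfsg.Agent.N16.Data
import Cfsg.Agent.N16.Fpf
import Cfsg.Agent.FG.ZLTop

/-!
The intersection of the normal `2`-subgroups of the centralizers of `t` and `s`.
-/

set_option autoImplicit false

namespace Cfsg.Agent.N16

open Subgroup Cfsg.Agent.Inv.Six Cfsg.Agent.Ch.FT3
open scoped commutatorElement

universe u
variable {G : Type u} [Group G]

theorem isPGroup_closure {S : Set G} (h1 : ∀ x ∈ S, x * x = 1)
    (h2 : ∀ x ∈ S, ∀ y ∈ S, Commute x y) : IsPGroup 2 (closure S) := by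
  have h3 : closure S ≤ centralizer S := (closure_le _).2 fun x hx =>
    mem_centralizer_iff.2 fun y hy => h2 y hy x hx
  have h4 : closure S ≤ centralizer (closure S : Set G) := (closure_le _).2 fun x hx =>
    mem_centralizer_iff.2 fun y hy => (mem_centralizer_iff.1 (h3 hy) x hx).symm
  rintro ⟨x, hx⟩
  refine ⟨1, Subtype.ext ?_⟩
  change x ^ 2 ^ 1 = 1
  rw [pow_one, pow_two]
  induction hx using closure_induction with
  | mem x hx => exact h1 x hx
  | one => simp
  | mul x y hx hy ix iy =>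
    rw [(show Commute y x from mem_centralizer_iff.1 (h4 hx) y hy).mul_mul_mul_comm, ix, iy, one_mul]
  | inv x _ ix => rw [← mul_inv_rev, ix, inv_one]

theorem K4_comm {t p q x e : G} (h1 : Commute x t) (h2 : Commute x p) (h3 : Commute x q)
    (he : e ∈ K4 t p q) : Commute x e :=
  (cC ⟨e, K4_le (mC h1.symm) (mC h2.symm) (mC h3.symm) he⟩).symm

theorem K4_map {t p q u e : G} {A : Subgroup G} (h1 : r u t ∈ A) (h2 : r u p ∈ A) (h3 : r u q ∈ A)
    (he : e ∈ K4 t p q) : r u e ∈ A :=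
  K4_le (A := A.comap (r u).toMonoidHom) h1 h2 h3 he

theorem K4_comm' {t p q x e : G} (h1 : Commute p t) (h2 : Commute q t) (h3 : Commute q p)
    (hx : x ∈ K4 t p q) (he : e ∈ K4 t p q) : Commute x e :=
  K4_comm (K4_comm (.refl t) h1.symm h2.symm hx).symm (K4_comm h1 (.refl p) h3.symm hx).symm
    (K4_comm h2 h3 (.refl q) hx).symm he

theorem K4_sq [Finite G] {t p q x : G} (ht : t * t = 1) (hp : Commute p t) (hq : Commute q t)
    (h1 : p * p = 1) (h2 : q * q = 1) (h3 : Commute q p) (hx : x ∈ K4 t p q) : x * x = 1 := by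
  have k : ∀ a, Commute a t → a * a = 1 → a * t * (a * t) = 1 := fun a c e => by
    rw [c.symm.mul_mul_mul_comm, e, ht, one_mul]
  have k2 : p * q * (p * q) = 1 := by rw [h3.mul_mul_mul_comm, h1, h2, one_mul]
  rcases mem_E8 ht hp hq h1 h2 h3 hx with (rfl | rfl) | (rfl | rfl) | (rfl | rfl) | (rfl | rfl)
  exacts [one_mul 1, ht, h1, k _ hp h1, h2, k _ hq h2, k2, k _ (hp.mul_left hq) k2]

namespace Dat
variable {g h t s ρ : G} (D : Dat g h t s ρ)
include D

theorem tt : t * t = 1 := D.sx.iz.1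

theorem t1 : t ≠ 1 := D.sx.iz.2

theorem gt : Commute g t := D.sx.xz

theorem g3 : g ^ 3 = 1 := D.sx.x3

theorem ρρ' (a : G) : r ρ (r ρ a) = a := r_inv_self D.ρρ a

theorem ρs : r ρ s = t := by rw [← D.ρt, D.ρρ']

theorem ρ_g (a : G) : r ρ (r g a) = r h (r ρ a) := by
  rw [← D.ρg]; simp only [r_def]; group

theorem h3 : h ^ 3 = 1 := by rw [← D.ρg, ← map_pow, D.g3, map_one]

theorem sc : IsConj t s := isConj_of_r D.ρt

theorem cs {a : G} (c : Commute a t) : Commute (r ρ a) s := D.ρt ▸ (r_commute ρ).2 c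

theorem ct {a : G} (c : Commute a s) : Commute (r ρ a) t := D.ρs ▸ (r_commute ρ).2 c

theorem sxa {e x : G} (he : In e) (hx : orderOf x = 3) (c : Commute x e) : Sx e x := by
  obtain ⟨w, rfl, rfl⟩ := D.key e x he hx c
  exact D.sx.conj w

theorem cls {e x : G} (he : In e) (hx : orderOf x = 3) (c : Commute x e) : IsConj t e := by
  obtain ⟨w, rfl, -⟩ := D.key e x he hx c
  exact isConj_r w t

theorem grid {a : G} (aa : a * a = 1) (h1 : Commute a (r g a)) (h2 : Commute a (r h a))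
    (n1 : a * r g a * r g (r g a) = 1) (n2 : a * r h a * r h (r h a) = 1) : a = 1 := by
  have sw : ∀ x, r h (r g x) = r g (r h x) := fun x => by rw [r_r, r_r, D.gh.eq]
  have hh : r h (r h (r h a)) = a := by rw [r_r, r_r, ← pow_three', D.h3, r_one]
  have e1 := eq_inv_of_mul_eq_one_right n1
  have e2 := eq_inv_of_mul_eq_one_right n2
  have e3 : r g (r g (r h a)) = (r h a * r g (r h a))⁻¹ := by
    rw [← sw, ← sw, e1, map_inv, map_mul, sw]
  have e4 : r g (r h (r h a)) = (r g a * r g (r h a))⁻¹ := by rw [e2, map_inv, map_mul]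
  have c1 : Commute (r g a) (r g (r h a)) := (r_commute g).2 h2
  have c2 : Commute (r h a) (r g (r h a)) := sw a ▸ (r_commute h).2 h1
  have c3 : Commute (r g a) (r h a) := by
    have k1 := congrArg (fun x => r h (r h x)) n1
    have k2 := congrArg (fun x => r g (r g x)) n2
    simp only [map_mul, map_one, sw] at k1 k2
    generalize r g (r g (r h (r h a))) = w at k1 k2
    rw [e4, e2] at k1
    rw [e1, e3] at k2
    have k3 := (eq_inv_of_mul_eq_one_right k1).symm.trans (eq_inv_of_mul_eq_one_right k2)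
    simp only [mul_inv_rev, inv_inv] at k3
    rw [c1.eq, c2.eq, h1.eq, h2.eq] at k3
    refine mul_left_cancel (a := r g (r h a)) (mul_right_cancel (b := a) ?_)
    simpa only [mul_assoc] using k3
  have c4 : Commute a (r g (r h a)) := by
    have k1 := (r_commute h).2 ((r_commute h).2 c3)
    rw [hh, sw, sw, e4] at k1
    simpa using h1.inv_right.mul_right k1.symm.inv_right
  have i1 : r g a * r g a = 1 := by rw [← map_mul, aa, map_one]
  have i2 : r h a * r h a = 1 := by rw [← map_mul, aa, map_one]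
  have i3 : r g (r h a) * r g (r h a) = 1 := by rw [← map_mul, i2, map_one]
  let S : Set G := {a, r g a, r h a, r g (r h a)}
  have m1 : a ∈ closure S := subset_closure (by simp [S])
  have m2 : r g a ∈ closure S := subset_closure (by simp [S])
  have m3 : r h a ∈ closure S := subset_closure (by simp [S])
  have m4 : r g (r h a) ∈ closure S := subset_closure (by simp [S])
  have := D.noM (closure S) (isPGroup_closure ?_ ?_)
    (fun x hx => (closure_le ((closure S).comap (r g).toMonoidHom)).2 ?_ hx)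
    (fun x hx => (closure_le ((closure S).comap (r h).toMonoidHom)).2 ?_ hx)
  · exact mem_bot.1 (this ▸ m1)
  · rintro _ (rfl | rfl | rfl | rfl) <;> assumption
  · rintro _ (rfl | rfl | rfl | rfl) _ (rfl | rfl | rfl | rfl) <;>
      first | assumption | exact Commute.refl _ | (apply Commute.symm; assumption)
  · rintro _ (rfl | rfl | rfl | rfl)
    · exact m2
    · exact (e1 ▸ inv_mem (mul_mem m1 m2) : r g (r g a) ∈ closure S)
    · exact m4
    · exact (e3 ▸ inv_mem (mul_mem m3 m4) : r g (r g (r h a)) ∈ closure S)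
  · rintro _ (rfl | rfl | rfl | rfl)
    · exact m3
    · exact (sw a ▸ m4 : r h (r g a) ∈ closure S)
    · exact (e2 ▸ inv_mem (mul_mem m1 m3) : r h (r h a) ∈ closure S)
    · change r h (r g (r h a)) ∈ closure S
      rw [sw, e4]; exact inv_mem (mul_mem m2 m4)

end Dat

/-- A normal `2`-subgroup of the centralizer of `t`. -/
structure Rr (g h t s ρ : G) (R : Subgroup G) : Prop extends Dat g h t s ρ where
  pg : IsPGroup 2 R
  tm : t ∈ R
  cz : ∀ a ∈ R, Commute a t
  nrm : ∀ x, Commute x t → ∀ a ∈ R, r x a ∈ R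

/-- The involution in the intersection. -/
structure Aa (g h t s ρ : G) (R : Subgroup G) (a y : G) : Prop extends Rr g h t s ρ R where
  aR : a ∈ R
  ρa : r ρ a = a
  ia : In a
  nb : a * r g a * r g (r g a) = t
  bs : r (r g a) s = s * t * a
  uniq : ∀ c ∈ R, r ρ c ∈ R → c ∈ zpowers a
  y3 : orderOf y = 3
  ya : Commute y a
  yt : r y t = s
  ys : r y s = s * t * a
  yu : r y (s * t * a) = t
  by' : r (r g a) y = y⁻¹

namespace Rr
variable {g h t s ρ : G} {R : Subgroup G} (D : Rr g h t s ρ R)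
include D

theorem ts : Ts t g s R :=
  ⟨D.sx.tr D.pg D.tm D.cz (D.nrm g D.gt), D.ss, D.st, D.sg, D.nrm s D.st⟩

theorem sR : s ∉ R := fun hs => by
  have h1 := mul_mem hs (D.nrm g D.gt s hs)
  have h2 : s * r g s = g := by
    calc _ = r s g * (s * s) * g⁻¹ := by simp only [r_def]; group
      _ = g * (g ^ 3)⁻¹ := by rw [D.sg, D.ss]; group
      _ = g := by rw [D.g3]; group
  rw [h2] at h1
  have := D.sx.ox
  rw [(Two.of_mem D.pg h1).eq_one D.g3 (mem_zpowers g), orderOf_one] at this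
  omega

theorem s_ne : s ≠ t := fun e => D.sR (e ▸ D.tm)

variable [Finite G]

theorem exists_a {c₀ : G} (h1 : c₀ ∈ R) (h2 : r ρ c₀ ∈ R) (h3 : c₀ ≠ 1) :
    ∃ a y, Aa g h t s ρ R a y := by
  have T := D.ts
  obtain ⟨a, aR, ρa, ia, ac⟩ : ∃ a ∈ R, r ρ a = a ∧ In a ∧ ∀ c ∈ R, r ρ c ∈ R → Commute c a := by
    obtain ⟨a, ⟨a1, a2⟩, a3, a4⟩ := FG.ZL.exists_central_inv (P := R ⊓ R.comap (r ρ).toMonoidHom)
      D.pg.to_inf_left fun e => h3 (mem_bot.1 (e ▸ (⟨h1, h2⟩ : c₀ ∈ R ⊓ R.comap (r ρ).toMonoidHom)))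
    have a5 : ∀ c ∈ R, r ρ c ∈ R → Commute c a := fun c hc hc' => a4 c ⟨hc, hc'⟩
    have a6 : ∀ c ∈ R, r ρ c ∈ R → Commute c (r ρ a) := fun c hc hc' => by
      rw [← r_commute ρ, D.ρρ']; exact a5 _ hc' ((D.ρρ' c).symm ▸ hc)
    have ia := in_iff.2 a3
    by_cases e : r ρ a = a
    · exact ⟨a, a1, e, ia, a5⟩
    refine ⟨a * r ρ a, mul_mem a1 a2, by rw [map_mul, D.ρρ', (a6 a a1 a2).eq], ⟨?_, fun e' => e ?_⟩,
      fun c hc hc' => (a5 c hc hc').mul_right (a6 c hc hc')⟩
    · rw [(a6 a a1 a2).symm.mul_mul_mul_comm, ia.1, (ia.map _).1, one_mul]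
    · rw [eq_inv_of_mul_eq_one_right e', inv_eq_of_mul_eq_one_right ia.1]
  have ab := T.inv_comm aR ia.1
  have ρb : r ρ (r g a) = r h a := by rw [D.ρ_g, ρa]
  have nb : a * r g a * r g (r g a) = t := by
    refine ((mem_Z D.tt).1 (T.norm aR)).resolve_left fun e => ia.2 (D.grid ia.1 ab ?_ e ?_)
    · rw [← ρb]; nth_rewrite 1 [← ρa]; exact (r_commute ρ).2 ab
    · have := congrArg (r ρ) e
      rwa [map_mul, map_mul, D.ρ_g, D.ρ_g, D.ρ_g, ρa, map_one] at this
  have at' := D.cz a aR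
  have as : Commute a s := ρa ▸ D.cs at'
  have bR := T.nx a aR
  have bb : r g a * r g a = 1 := (ia.map _).1
  have bs : r (r g a) s = s * t * a := by
    have e1 : r s (r g a) = (a * r g a)⁻¹ * t := by rw [T.s_g, r_fix as.symm, ← nb]; group
    have c := (ab.symm.inv_right.mul_right (D.cz _ bR)).inv_left.eq
    calc _ = s⁻¹ * r s (r g a) * (s * s) * (r g a)⁻¹ := by simp only [r_def]; group
      _ = s⁻¹ * ((r g a)⁻¹ * (a⁻¹ * t)) * (r g a)⁻¹ := by rw [e1, D.ss]; group
      _ = s⁻¹ * (a⁻¹ * t) * (r g a * r g a)⁻¹ := by rw [c]; group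
      _ = _ := by
        rw [bb, inv_eq_of_mul_eq_one_right D.ss, inv_eq_of_mul_eq_one_right ia.1, at'.eq]; group
  have bt := r_fix (D.cz _ bR)
  have ba := r_fix ab.symm
  have b't : r (r h a) t = s * t * a := by
    have := congrArg (r ρ) bs
    rw [map_mul, map_mul, D.ρs, D.ρt, ρa, ← D.st.eq] at this
    rw [← this, ← ρb, ← D.ρs]; simp only [r_def]; group
  have b's : r (r h a) s = s := r_fix (ρb ▸ D.cs (D.cz _ bR))
  have b'a : r (r h a) a = a := by
    rw [← ρb]; nth_rewrite 2 [← ρa]; exact (r_fix ((r_commute ρ).2 ab.symm)).trans ρa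
  have bb' : r h a * r h a = 1 := (ia.map _).1
  have bu : r (r g a) (s * t * a) = s := by rw [← bs, r_inv_self bb]
  have b'u : r (r h a) (s * t * a) = t := by rw [← b't, r_inv_self bb']
  have hb : ∀ c ∈ R, r ρ c ∈ R → ⁅r g a, c⁆ ∈ zpowers t := fun c hc hc' => br_symm
    (T.comm_r hc aR (commutatorElement_eq_one_iff_commute.2 (ac c hc hc') ▸ one_mem _))
  have hb' : ∀ c ∈ R, r ρ c ∈ R → ⁅r h a, c⁆ ∈ zpowers s := fun c hc hc' => by
    rw [← D.ρt, ← ρb, ← D.ρρ' c, ← map_commutatorElement, r_mem_Z_iff]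
    exact hb _ hc' ((D.ρρ' c).symm ▸ hc)
  generalize hB : r g a = b at *
  generalize r h a = b' at *
  have ut : r (b * b') t = s := by rw [← r_r, b't, bu]
  have us : r (b * b') s = s * t * a := by rw [← r_r, b's, bs]
  have uu : r (b * b') (s * t * a) = t := by rw [← r_r, b'u, bt]
  have ua : r (b * b') a = a := by rw [← r_r, b'a, ba]
  obtain ⟨k, k1, k2⟩ := three_part D.el (b * b')
  have yt : r ((b * b') ^ k) t = s := by rw [cyc (by rw [ut, us, uu]) k1, ut]
  have y3 : orderOf ((b * b') ^ k) = 3 := orderOf_eq_prime k2 fun e => D.s_ne (by rw [← yt, e, r_one])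
  have ya : Commute ((b * b') ^ k) a := (r_eq_iff.1 ua).pow_left k
  refine ⟨a, (b * b') ^ k, D, aR, ρa, ia, hB ▸ nb, hB ▸ bs, fun c hc hc' => ?_, y3, ya, yt,
    by rw [cyc (by rw [us, uu, ut]) k1, us], by rw [cyc (by rw [uu, ut, us]) k1, uu], ?_⟩
  swap
  · rw [hB, map_pow, ← inv_pow, r_def, mul_inv_rev, inv_eq_of_mul_eq_one_right bb', ← mul_assoc, bb,
      one_mul]
  have m1 := K4_1 a t s
  have m2 := K4_2 a t s
  have m3 := K4_3 a t s
  have m4 := mul_mem (mul_mem m3 m2) m1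
  have ct := D.cz c hc
  have cs : Commute c s := D.ρρ' c ▸ D.cs (D.cz _ hc')
  have E1 : ∀ e ∈ K4 a t s, r b e ∈ K4 a t s := fun e =>
    K4_map (ba.symm ▸ m1) (bt.symm ▸ m2) (bs.symm ▸ m4)
  have E2 : ∀ e ∈ K4 a t s, r (b * b') e ∈ K4 a t s := fun e =>
    K4_map (ua.symm ▸ m1) (ut.symm ▸ m3) (us.symm ▸ m4)
  have c1 : Cg (K4 a t s) (r b c) c := ((cg_r_iff ct).2 (hb c hc hc')).mono (zpowers_le.2 m2)
  have c2 : Cg (K4 a t s) (r b' c) c := ((cg_r_iff cs).2 (hb' c hc hc')).mono (zpowers_le.2 m3)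
  have c3 : Cg (K4 a t s) (r (b * b') c) c := r_r b b' c ▸ (c2.map _ E1).trans c1
  have c4 : ∀ k : ℕ, Cg (K4 a t s) (r ((b * b') ^ k) c) c ∧
      ∀ e ∈ K4 a t s, r ((b * b') ^ k) e ∈ K4 a t s := fun k => by
    induction k with
    | zero => simp [r_one, Cg.refl]
    | succ k ih =>
      rw [pow_succ']
      exact ⟨r_r _ _ c ▸ (ih.1.map _ E2).trans c3, fun e he => r_r _ _ e ▸ E2 _ (ih.2 e he)⟩
  obtain ⟨c5, c6⟩ := c4 k
  have S := D.sxa ia y3 ya
  generalize (b * b') ^ k = y at *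
  obtain ⟨e1, he1, c7⟩ := c5.ex
  obtain ⟨e2, he2, c8⟩ := ((c5.map _ c6).trans c5).ex
  have c9 : r y (c * e2) = c := by rw [← c8, r_r, r_r, ← pow_three', k2, r_one]
  have cE := fun e he => K4_comm (e := e) (ac c hc hc') ct cs he
  have EE := fun e e' he he' => K4_comm' (x := e) (e := e') at'.symm as.symm D.st he he'
  have tc := Two.of_mem D.pg hc
  have tE := fun e he => Two.of_inv (K4_sq (x := e) ia.1 at'.symm as.symm D.tt D.ss D.st he)
  have c10 : c * (c * e1) * (c * e2) = c ^ 3 * (e1 * e2) := by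
    rw [mul_assoc, (cE e1 he1).symm.mul_mul_mul_comm, pow_three]; group
  have c11 : c * (c * e1) * (c * e2) ∈ zpowers a := by
    refine S.two ?_ (r_eq_iff.1 ?_).symm ?_
    · rw [c10]
      exact ((ac c hc hc').pow_left 3).mul_left (EE _ _ (mul_mem he1 he2) m1)
    · rw [map_mul, map_mul, c9, ← c7, c8, c7]
      have k1 := ((Commute.refl c).mul_right (cE e1 he1)).mul_right
        ((Commute.refl c).mul_right (cE e2 he2))
      rw [← k1.eq]; simp only [mul_assoc]
    · rw [c10, pow_three]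
      exact (tc.mul (tc.mul tc (.refl c)) ((Commute.refl c).mul_right (.refl c))).mul
        (tE _ (mul_mem he1 he2)) (pow_three c ▸ (cE _ (mul_mem he1 he2)).pow_left 3)
  have c12 := Z_le_K4 a t s c11
  rw [c10, mul_mem_cancel_right (mul_mem he1 he2)] at c12
  obtain ⟨n, hn⟩ := tc
  have c13 : c ∈ K4 a t s := mem_of_coprime
    (Nat.Coprime.pow_left n (show Nat.Coprime 2 3 by norm_num)) (hn ▸ one_mem _) c12
  have aZ : zpowers a ≤ R := zpowers_le.2 aR
  rcases mem_K4 at'.symm as.symm (D.tt ▸ one_mem _) (D.ss ▸ one_mem _)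
    (commutatorElement_eq_one_iff_commute.2 D.st ▸ one_mem _) c13 with e | e | e | e
  · exact e
  · have := (e.map (r ρ) (rZ (r_eq_iff.1 ρa))).mem_iff aZ
    exact absurd (D.ρt ▸ this.1 hc') D.sR
  · exact absurd ((e.mem_iff aZ).1 hc) D.sR
  · exact absurd ((mul_mem_cancel_left D.tm).1 ((e.mem_iff aZ).1 hc)) D.sR

end Rr

end Cfsg.Agent.N16
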