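import Mathlib
import Cfsg.Agent.N16.Core
import Cfsg.Agent.Blk.DihGroup

/-!
Parity arguments in the case in which `t` and `s t` are not conjugate.
-/

set_option autoImplicit false

namespace Cfsg.Agent.N16

open Subgroup Cfsg.Agent.Inv.Six Cfsg.Agent.Inv.Fz Cfsg.Agent.Blk.Q8

universe u
variable {G : Type u} [Group G] [Finite G]

theorem odd_c {T C : Subgroup G} (h : IsSylIn 2 T C) :
    ∃ m, m % 2 = 1 ∧ Nat.card C = Nat.card T * m := by
  refine ⟨_, ?_, (card_mul_relIndex h.le).symm⟩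
  have := h.not_dvd_relIndex
  omega

omit [Finite G] in
theorem dd_refl {σ τ : G} {D : Subgroup G} (dd : DD D σ τ 1) (i : ℤ) :
    ∃ j : ℤ, r (σ ^ j) τ = σ ^ i * τ ∨ r (σ ^ j) (σ * τ) = σ ^ i * τ := by
  obtain ⟨j, rfl | rfl⟩ := Int.even_or_odd' i
  · exact ⟨j, Or.inl (by simpa [r_def] using dd.conj_refl 0 j)⟩
  · exact ⟨j, Or.inr (by simpa [r_def, add_comm] using dd.conj_refl 1 j)⟩

omit [Finite G] in
theorem dd_nc {t σ τ : G} {D : Subgroup G} (it : In t) (dd : DD D σ τ 1)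
    (n1 : ¬ IsConj t τ) (n2 : ¬ IsConj t (σ * τ)) (n3 : ¬ IsConj t (σ ^ 2 ^ 1)) :
    ∀ d ∈ D, ¬ IsConj t d := fun d hd hc => by
  rcases dd.invol_cases hd (in_iff.1 (In.conj it hc)) with rfl | ⟨i, rfl⟩
  · exact n3 hc
  · obtain ⟨j, e | e⟩ := dd_refl dd i
    · exact n1 (hc.trans (isConj_of_r e).symm)
    · exact n2 (hc.trans (isConj_of_r e).symm)

theorem ncard_six {t σ τ : G} {D : Subgroup G} (it : In t) (dd : DD D σ τ 1)
    (comm : ∀ d ∈ D, Commute d t) (nc : ∀ d ∈ D, ¬ IsConj t d) (c1 : IsConj t (t * τ))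
    (c2 : IsConj t (t * (σ * τ))) (c3 : IsConj t (t * σ ^ 2 ^ 1)) :
    {y | IsConj t y ∧ y ∈ D ⊔ zpowers t}.ncard = 6 := by
  have tt := it.1
  have hn : t ∈ normalizer (D : Set G) :=
    centralizer_le_normalizer _ (mem_centralizer_iff.2 fun d hd => comm d hd)
  have hr := dd_refl dd
  have e1 : {y | IsConj t y ∧ y ∈ D ⊔ zpowers t} = (fun d => t * d) ''
      ({1, σ ^ 2 ^ 1} ∪ ((D : Set G) \ zpowers σ)) := by
    ext y
    have h4 : y = t * (t * y) := by rw [← mul_assoc, tt, one_mul]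
    simp only [Set.mem_setOf_eq, Set.mem_image]
    constructor
    · rintro ⟨h1, h2⟩
      have h3 := ((FG.ZL.mem_ext hn (tt ▸ one_mem D)).1 h2).resolve_left fun h => nc y h h1
      refine ⟨t * y, ?_, h4.symm⟩
      by_cases h6 : t * y ∈ zpowers σ
      · left
        by_cases h7 : t * y = 1
        · exact Or.inl h7
        · refine Or.inr (dd.eq_J h6 (orderOf_eq_prime ?_ h7))
          have h8 := (In.conj it h1).1
          rw [h4, (comm _ h3).mul_mul_mul_comm, tt, one_mul] at h8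
          rw [pow_two, h8]
      · exact Or.inr ⟨h3, h6⟩
    · rintro ⟨d, hd, rfl⟩
      have k : ∀ d ∈ D, t * d ∈ D ⊔ zpowers t := fun d hd =>
        mul_mem (mem_sup_right (mem_zpowers t)) (mem_sup_left hd)
      rcases hd with (rfl | rfl) | ⟨h1, h2⟩
      · exact ⟨by rw [mul_one], k _ (one_mem _)⟩
      · exact ⟨c3, k _ dd.J_mem⟩
      · refine ⟨?_, k _ h1⟩
        obtain ⟨i, rfl | rfl⟩ := dd.mem_iff.1 h1
        · exact absurd (zpow_mem (mem_zpowers σ) i) h2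
        · obtain ⟨j, e | e⟩ := hr i
          · exact c1.trans (isConj_of_r (g := σ ^ j) (by
              rw [map_mul, e, r_fix (comm _ (dd.rot_mem j))]))
          · exact c2.trans (isConj_of_r (g := σ ^ j) (by
              rw [map_mul, e, r_fix (comm _ (dd.rot_mem j))]))
  rw [e1, Set.ncard_image_of_injective _ (mul_right_injective t), Set.ncard_union_eq,
    Set.ncard_pair dd.J_ne_one.symm, Set.ncard_diff (s := (zpowers σ : Set G)) dd.zpowers_le]
  · have e2 : (D : Set G).ncard = 2 ^ (1 + 2) := dd.card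
    have e3 : (zpowers σ : Set G).ncard = 2 ^ (1 + 1) := by
      rw [← dd.ord, ← Nat.card_zpowers]; rfl
    rw [e2, e3]; rfl
  · rw [Set.disjoint_left]
    rintro x (rfl | rfl) ⟨-, h2⟩
    exacts [h2 (one_mem _), h2 DD.J_mem_rot]

namespace Dat
variable {g h t s ρ : G} (D : Dat g h t s ρ) (hG : _root_.commutator G = ⊤)
  (hn : ¬ IsConj t (s * t))
include D hG hn

theorem par {K : Subgroup G} (hK : Nat.card K = 16) : ∃ f f' : ℕ, f % 4 = f' % 4 ∧
    16 * f = {y | IsConj t y ∧ y ∈ K}.ncard * Nat.card (centralizer ({t} : Set G)) ∧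
    16 * f' = 4 * Nat.card (centralizer ({t} : Set G)) := by
  obtain ⟨Q, h1, h2⟩ := D.sd
  obtain ⟨f, e1, e2⟩ := FG.ZL.parity hG K D.tt
  obtain ⟨f', e3, e4⟩ := FG.ZL.parity hG Q D.tt
  have e5 := K.card_mul_index.trans Q.card_mul_index.symm
  rw [hK] at e2 e5
  rw [h1] at e4 e5
  exact ⟨f, f', by omega, e2, h2 hn ▸ e4⟩

theorem par16 {T : Subgroup G} (hT : Nat.card T = 16) {m : ℕ} (hm : m % 2 = 1)
    (hc : Nat.card (centralizer ({t} : Set G)) = 16 * m)
    (h6 : {y | IsConj t y ∧ y ∈ T}.ncard = 6) : False := by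
  obtain ⟨f, f', e1, e2, e3⟩ := D.par hG hn hT
  rw [h6, hc] at e2
  omega

theorem par_dd {σ τ : G} {P : Subgroup G} (dd : DD P σ τ 1) (comm : ∀ d ∈ P, Commute d t)
    (n1 : ¬ IsConj t τ) (n2 : ¬ IsConj t (σ * τ)) (n3 : ¬ IsConj t (σ ^ 2 ^ 1))
    (c1 : IsConj t (t * τ)) (c2 : IsConj t (t * (σ * τ))) (c3 : IsConj t (t * σ ^ 2 ^ 1))
    (hc : Nat.card ↥(P ⊔ zpowers t) = 16 →
      ∃ m, m % 2 = 1 ∧ Nat.card (centralizer ({t} : Set G)) = 16 * m) : False := by
  have nc := dd_nc D.sx.iz dd n1 n2 n3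
  have h1 : Nat.card ↥(P ⊔ zpowers t) = 16 := by
    rw [FG.ZL.card_ext (centralizer_le_normalizer _ (mem_centralizer_iff.2 fun d hd => comm d hd))
      (D.tt ▸ one_mem _) fun h => nc t h (.refl t), dd.card]; rfl
  obtain ⟨m, hm, hc⟩ := hc h1
  exact D.par16 hG hn h1 hm hc (ncard_six D.sx.iz dd comm nc c1 c2 c3)

theorem par8 {K : Subgroup G} (hK : Nat.card K = 16) {m : ℕ} (hm : m % 2 = 1)
    (hc : Nat.card (centralizer ({t} : Set G)) = 8 * m)
    (h5 : 5 ≤ {y | IsConj t y ∧ y ∈ K}.ncard) (h11 : {y | IsConj t y ∧ y ∈ K}.ncard ≤ 11) :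
    False := by
  obtain ⟨f, f', e1, e2, e3⟩ := D.par hG hn hK
  rw [hc] at e2 e3
  generalize {y | IsConj t y ∧ y ∈ K}.ncard = n at *
  interval_cases n <;> omega

theorem par4 (hs : s ≠ t) (hT : IsSylIn 2 (zpowers t ⊔ zpowers s) (centralizer {t})) : False := by
  obtain ⟨Q, h1, -⟩ := D.sd
  obtain ⟨m, hm, hc⟩ := odd_c hT
  obtain ⟨f, e1, e2⟩ := FG.ZL.parity hG (zpowers t ⊔ zpowers s) D.tt
  have is : In s := In.conj D.sx.iz D.sc
  have e3 : Nat.card ↥(zpowers t ⊔ zpowers s) = 4 := by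
    rw [FG.ZL.card_ext (norm_Z D.st) (D.ss ▸ one_mem _)
      (fun h => ((mem_Z D.tt).1 h).elim is.2 hs), Nat.card_zpowers, in_iff.1 D.sx.iz]
  have e4 : {y | IsConj t y ∧ y ∈ zpowers t ⊔ zpowers s} = {t, s} := by
    ext y
    constructor
    · rintro ⟨h2, h3⟩
      rcases mem_E4 D.tt D.st D.ss h3 with (rfl | rfl) | (rfl | rfl)
      · exact absurd rfl (In.conj D.sx.iz h2).2
      · simp
      · simp
      · exact absurd h2 hn
    · rintro (rfl | rfl)
      · exact ⟨.refl _, mem_sup_left (mem_zpowers _)⟩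
      · exact ⟨D.sc, mem_sup_right (mem_zpowers _)⟩
  have e5 := (zpowers t ⊔ zpowers s).card_mul_index.trans Q.card_mul_index.symm
  rw [e4, Set.ncard_pair hs.symm, hc, e3] at e2
  rw [e3, h1] at e5
  omega

end Dat

end Cfsg.Agent.N16
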