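import Mathlib
import Cfsg.Agent.N16.Par

/-!
The case in which the centralizer of `t` has a quotient `S₃`: general facts.
-/

set_option autoImplicit false

namespace Cfsg.Agent.N16

open Subgroup Cfsg.Agent.Inv.Six Cfsg.Agent.Inv.Fz Cfsg.Agent.Blk.Q8
open scoped commutatorElement

universe u
variable {G : Type u} [Group G]

theorem r_conj (w u v : G) : r (r w u) (r w v) = r w (r u v) := by simp only [r_def]; group

theorem r_swap {t s c : G} (tt : t * t = 1) (c1 : Commute c t) (c2 : Commute s t)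
    (h : r s c = c * t) : r c s = s * t := by
  calc _ = t⁻¹ * (t * c) * s * c⁻¹ := by rw [r_def]; group
    _ = t⁻¹ * r s c * s * c⁻¹ := by rw [h, c1.eq]
    _ = t⁻¹ * s := by rw [r_def]; group
    _ = _ := by rw [inv_eq_of_mul_eq_one_right tt, c2.eq]

theorem sq_cg {t u p : G} (tt : t * t = 1) (c : Commute p t) (h : Cg (zpowers t) u p) :
    u * u = p * p := by
  rcases h.cases tt with rfl | rfl
  · rfl
  · rw [c.symm.mul_mul_mul_comm, tt, mul_one]

theorem mul_mul_self {a t : G} (tt : t * t = 1) : a * t * t = a := by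
  rw [mul_assoc, tt, mul_one]

theorem K2_comm {t p x e : G} (h1 : Commute x t) (h2 : Commute x p)
    (he : e ∈ zpowers t ⊔ zpowers p) : Commute x e :=
  K4_comm h1 h2 h1 (mem_sup_left he)

namespace Aa
variable {g h t s ρ : G} {R : Subgroup G} {a y : G} (A : Aa g h t s ρ R a y)
include A

theorem aa : a * a = 1 := A.ia.1

theorem at' : Commute a t := A.cz a A.aR

theorem as : Commute a s := A.ρa ▸ A.cs A.at'

theorem a_ne : a ≠ t := fun e => A.s_ne (by rw [← A.ρt, ← e, A.ρa])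

theorem aZ : a ∉ zpowers t := fun h => ((mem_Z A.tt).1 h).elim A.ia.2 A.a_ne

theorem bR : r g a ∈ R := A.nrm g A.gt a A.aR

theorem bt : Commute (r g a) t := A.cz _ A.bR

theorem bb : r g a * r g a = 1 := (A.ia.map _).1

theorem ca : IsConj t a := A.cls A.ia A.y3 A.ya

theorem y_at : r y (r y (a * t)) = s * t := by
  simp only [map_mul, r_fix A.ya, A.yt, A.ys]
  rw [(A.as.mul_right A.at').symm.eq, ← mul_assoc, A.aa, one_mul]

theorem c_at : IsConj (a * t) (s * t) :=
  (isConj_r y _).trans (isConj_of_r A.y_at)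

theorem W_le : zpowers t ⊔ zpowers a ≤ K4 t a (r g a) := le_sup_left

theorem E_le : K4 t a (r g a) ≤ R := K4_le A.tm A.aR A.bR

variable [Finite G]

theorem ab : Commute a (r g a) := A.ts.inv_comm A.aR A.aa

theorem gb : r g (r g a) = a * r g a * t := by
  rw [← A.nb, ← mul_assoc, A.ab.symm.mul_mul_mul_comm, A.aa, one_mul, A.bb, one_mul]

theorem sb : r s (r g a) = a * r g a * t := by rw [A.ts.s_g, r_fix A.as.symm, A.gb]

theorem gE {e : G} (he : e ∈ K4 t a (r g a)) : r g e ∈ K4 t a (r g a) :=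
  K4_map ((r_fix A.gt).symm ▸ K4_1 _ _ _) (K4_3 _ _ _)
    (A.gb ▸ mul_mem (mul_mem (K4_2 _ _ _) (K4_3 _ _ _)) (K4_1 _ _ _)) he

theorem memE {e : G} (he : e ∈ K4 t a (r g a)) : e ∈ zpowers t ∨ Cg (zpowers t) e a ∨
    Cg (zpowers t) e (r g a) ∨ Cg (zpowers t) e (a * r g a) :=
  mem_K4 A.at' A.bt (A.aa ▸ one_mem _) (A.bb ▸ one_mem _)
    (commutatorElement_eq_one_iff_commute.2 A.ab.symm ▸ one_mem _) he

theorem clsE (hz : IsConj t (s * t)) {e : G} (he : e ∈ K4 t a (r g a)) (h1 : e ≠ 1) :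
    IsConj t e := by
  have gt := r_fix A.gt
  have c1 : IsConj t (a * t) := hz.trans A.c_at.symm
  have c2 : IsConj t (r g a) := A.ca.trans (isConj_r g a)
  have c3 : IsConj t (r g a * t) := c1.trans (isConj_of_r (g := g) (by rw [map_mul, gt]))
  rcases mem_E8 A.tt A.at' A.bt A.aa A.bb A.ab.symm he with
    (e | e) | (e | e) | (e | e) | (e | e) <;> rw [e]
  · exact absurd e h1
  · exact A.ca
  · exact c1
  · exact c2
  · exact c3
  · exact c3.trans (isConj_of_r (g := g) (by rw [map_mul, gt, A.gb, mul_mul_self A.tt]))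
  · exact c2.trans (isConj_of_r A.gb)

theorem notE {c : G} (hc : c ∈ K4 t a (r g a)) : r s c ≠ c * t := fun e => by
  have k : ∀ p, Cg (zpowers t) c p → r s p = p * t := fun p hp => by
    obtain ⟨v, hv, rfl⟩ := hp.ex
    rw [map_mul, r_fix (commute_Z A.st hv), mul_assoc, ← (commute_Z (.refl t) hv).eq,
      ← mul_assoc] at e
    exact mul_right_cancel e
  rcases A.memE hc with h | h | h | h
  · rw [r_fix (commute_Z A.st h)] at e
    exact A.t1 (by simpa using e)
  · have := k _ h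
    rw [r_fix A.as.symm] at this
    exact A.t1 (by simpa using this)
  · have := k _ h
    rw [A.sb] at this
    exact A.ia.2 (by simpa using this)
  · have := k _ h
    rw [map_mul, A.sb, r_fix A.as.symm] at this
    exact A.ia.2 (by simpa [mul_assoc] using this)

end Aa

/-- The case of a quotient `S₃`. -/
structure Sy (g h t s ρ : G) (R : Subgroup G) : Prop extends Rr g h t s ρ R where
  idx : ∀ a b, Inv.Six.Out t R a → Inv.Six.Out t R b → Two (a * b) → a * b ∈ R

namespace Sy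
variable {g h t s ρ : G} {R : Subgroup G} (D : Sy g h t s ρ R)
include D

theorem sOut : Inv.Six.Out t R s := ⟨D.st, .of_inv D.ss, D.sR⟩

theorem cv1 {x : G} (h1 : Two x) (h2 : Commute x t) (h3 : Commute x s) : x ∈ R ∨ x * s ∈ R :=
  or_iff_not_imp_left.2 fun h => D.idx _ _ ⟨h2, h1, h⟩ D.sOut (h1.mul (.of_inv D.ss) h3)

theorem cv2 {x : G} (h1 : x ∈ R) (h3 : Commute x s) : r ρ x ∈ R ∨ r ρ (x * t) ∈ R := by
  rw [map_mul, D.ρt]
  exact D.cv1 ((Two.of_mem D.pg h1).map _) (D.ct h3) (D.cs (D.cz x h1))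

variable [Finite G]

theorem sn : s ∈ normalizer (R : Set G) := mem_normalizer_fintype (D.nrm s D.st)

theorem sylT : IsSylIn 2 (R ⊔ zpowers s) (centralizer {t}) := by
  refine ⟨sup_le (fun a ha => mC (D.cz a ha)) (zpowers_le.2 (mC D.st)),
    FG.ZL.isPGroup_ext D.sn (D.ss ▸ one_mem _) D.pg, fun Q hQ h1 h2 => le_antisymm (fun x hx => ?_) h2⟩
  refine (FG.ZL.mem_ext D.sn (D.ss ▸ one_mem _)).2 (or_iff_not_imp_left.2 fun h => ?_)
  exact D.idx _ _ D.sOut ⟨cC ⟨x, h1 hx⟩, .of_mem hQ hx, h⟩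
    (.of_mem hQ (mul_mem (h2 (mem_sup_right (mem_zpowers s))) hx))

theorem out (hz : IsConj t (s * t)) {u : G} (iu : In u) (c : Commute u t) (hu : u ∉ R) :
    IsConj t u := by
  obtain ⟨k, hk, e⟩ := FG.ZL.exists_conj_mem D.sylT (mC c) (n := 1) (by rw [pow_one, pow_two, iu.1])
  rcases (FG.ZL.mem_ext D.sn (D.ss ▸ one_mem _)).1 e with h1 | h1
  · exact absurd (r_inv_r k u ▸ D.nrm _ (cC ⟨k, hk⟩).inv_left _ h1) hu
  have e2 : s * (s * (k * u * k⁻¹)) = r k u := by rw [← mul_assoc, D.ss, one_mul, r_def]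
  have := D.ts.conj_out h1 (by rw [e2]; exact (iu.map _).1)
  rw [e2] at this
  exact (this.elim D.sc.trans hz.trans).trans (isConj_r k u).symm

theorem fixed (hn : ¬ IsConj t (s * t)) {c : G} (hc : c ∈ R) (h : Cg (zpowers t) (r s c) c) :
    Commute c s := by
  rcases h.cases D.tt with e | e
  · exact (r_eq_iff.1 e).symm
  · exact absurd (D.sc.trans (isConj_of_r (r_swap D.tt (D.cz c hc) D.st e))) hn

section bot
variable (hA : ∀ c ∈ R, r ρ c ∈ R → c = 1)
include hA

omit [Finite G] in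
theorem memZ {x : G} (h1 : x ∈ R) (h3 : Commute x s) : x ∈ zpowers t := by
  rcases D.cv2 h1 h3 with h | h
  · exact hA x h1 h ▸ one_mem _
  · exact eq_inv_of_mul_eq_one_left (hA _ (mul_mem h1 D.tm) h) ▸ inv_mem (mem_zpowers t)

theorem le_Z (hx : ∀ c ∈ R, Cg (zpowers t) (r s c) c → Commute c s) : R ≤ zpowers t :=
  D.ts.gen (mem_zpowers t) fun c hc h =>
    ⟨D.memZ hA hc (hx c hc h), rZ D.gt _ (D.memZ hA hc (hx c hc h))⟩

theorem bot_conj (hG : _root_.commutator G = ⊤) : IsConj t (s * t) := by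
  by_contra hn
  have e : R = zpowers t := le_antisymm (D.le_Z hA fun c => D.fixed hn) (zpowers_le.2 D.tm)
  exact D.par4 hG hn D.s_ne (e ▸ D.sylT)

theorem bot_in {u : G} (iu : In u) (hu : u ∈ R) : u = t := by
  have T := D.ts
  refine ((mem_Z D.tt).1 ?_).resolve_left iu.2
  by_cases hx : ∀ c ∈ R, Cg (zpowers t) (r s c) c → Commute c s
  · exact D.le_Z hA hx hu
  push Not at hx
  obtain ⟨x, x1, x2, x3⟩ := hx
  have x4 := (x2.cases D.tt).resolve_left fun e => x3 (r_eq_iff.1 e).symm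
  have xt := D.cz x x1
  have x5 : x * x ∈ zpowers t := D.memZ hA (mul_mem x1 x1) (r_eq_iff.1 (by
    rw [map_mul, x4, xt.symm.mul_mul_mul_comm, D.tt, mul_one])).symm
  have x6 : x * x = t := by
    have := T.inverts x1 x2 x5
    rw [x4, eq_inv_iff_mul_eq_one, mul_assoc, ← xt.eq, ← mul_assoc] at this
    rw [eq_inv_of_mul_eq_one_left this, inv_eq_of_mul_eq_one_right D.tt]
  have x7 : r g x * r g x = t := by rw [← map_mul, x6, r_fix D.gt]
  have x8 : r g (r g x) * r g (r g x) = t := by rw [← map_mul, x7, r_fix D.gt]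
  have x9 := T.nx x x1
  have h1 : R ≤ K4 t x (r g x) := T.gen (K4_1 _ _ _) fun c hc h => by
    rcases h.cases D.tt with e | e
    · have := D.memZ hA hc (r_eq_iff.1 e).symm
      exact ⟨Z_le_K4 _ _ _ this, Z_le_K4 _ _ _ (rZ D.gt _ this)⟩
    · have : Cg (zpowers t) c x := D.memZ hA (mul_mem (inv_mem x1) hc) (r_eq_iff.1 (by
        rw [map_mul, map_inv, x4, e, xt.eq, mul_inv_rev, mul_assoc, (D.cz c hc).eq,
          inv_mul_cancel_left])).symm
      exact ⟨(this.mem_iff (Z_le_K4 _ _ _)).2 (K4_2 _ _ _),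
        ((this.map _ (rZ D.gt)).mem_iff (Z_le_K4 _ _ _)).2 (K4_3 _ _ _)⟩
  rcases mem_K4 xt (D.cz _ x9) x5 (x7 ▸ mem_zpowers t) (br_symm (T.br_self x1)) (h1 hu) with
    h | h | h | h
  · exact h
  · exact absurd (by rw [← x6, ← sq_cg D.tt xt h, iu.1]) D.t1
  · exact absurd (by rw [← x7, ← sq_cg D.tt (D.cz _ x9) h, iu.1]) D.t1
  · have c := D.cz _ (mul_mem x1 x9)
    have h2 := sq_cg D.tt c.inv_left (T.rr_cg x1)
    rw [← mul_inv_rev, ← sq_cg D.tt c h, iu.1, x8, inv_one] at h2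
    exact absurd h2 D.t1

end bot

section top
variable {a y : G} (A : Aa g h t s ρ R a y)
include A

omit [Finite G] in
theorem memW {x : G} (h1 : x ∈ R) (h3 : Commute x s) : x ∈ zpowers t ⊔ zpowers a := by
  rcases D.cv2 h1 h3 with h | h
  · exact mem_sup_right (A.uniq x h1 h)
  · exact (mul_mem_cancel_right (mem_sup_left (mem_zpowers t))).1
      (mem_sup_right (A.uniq _ (mul_mem h1 D.tm) h))

omit [Finite G] in
theorem memE' {x : G} (h1 : Two x) (h2 : Commute x t) (h3 : Commute x s) : x ∈ K4 a t s := by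
  have k : zpowers t ⊔ zpowers a ≤ K4 a t s := (sup_comm _ _).le.trans le_sup_left
  rcases D.cv1 h1 h2 h3 with h | h
  · exact k (D.memW A h h3)
  · exact (mul_mem_cancel_right (K4_3 a t s)).1 (k (D.memW A h (h3.mul_left (.refl s))))

theorem le_E (hx : ∀ c ∈ R, Cg (zpowers t) (r s c) c → Commute c s) : R ≤ K4 t a (r g a) :=
  D.ts.gen (K4_1 _ _ _) fun c hc h =>
    ⟨A.W_le (D.memW A hc (hx c hc h)), A.gE (A.W_le (D.memW A hc (hx c hc h)))⟩

theorem top_conj (hG : _root_.commutator G = ⊤) : IsConj t (s * t) := by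
  by_contra hn
  have h1 := D.le_E A fun c => D.fixed hn
  have bt := A.bt
  have n1 : ¬ IsConj t (a * t) := fun h => hn (h.trans A.c_at)
  have e1 : (r g a * s) ^ 2 ^ 1 = a * t := by
    calc _ = r (r g a) s * (r g a * r g a) * s := by rw [pow_one, pow_two, r_def (r g a)]; group
      _ = s * (a * t * s) := by rw [A.bs, A.bb, A.at'.eq]; group
      _ = _ := by rw [(A.as.mul_left D.st.symm).eq, ← mul_assoc, D.ss, one_mul]
  have i1 : In (a * t) := ⟨by rw [A.at'.symm.mul_mul_mul_comm, A.aa, D.tt, one_mul], fun e =>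
    A.a_ne (by rw [eq_inv_of_mul_eq_one_left e, inv_eq_of_mul_eq_one_right D.tt])⟩
  have o1 : orderOf (r g a * s) = 2 ^ (1 + 1) :=
    orderOf_eq_prime_pow (e1 ▸ i1.2) (by rw [pow_succ, pow_mul, e1, pow_two, i1.1])
  have e2 : s * t * (r g a * s) * (s * t)⁻¹ = (r g a * s)⁻¹ := by
    calc _ = s * (t * (r g a * s) * t⁻¹) * s⁻¹ := by group
      _ = s * r g a := by rw [← (bt.mul_left D.st).eq]; group
      _ = _ := by rw [mul_inv_rev, inv_eq_of_mul_eq_one_right D.ss, inv_eq_of_mul_eq_one_right A.bb]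
  have e3 : r g a * s * (s * t) = r g a * t := by rw [mul_assoc, ← mul_assoc s, D.ss, one_mul]
  have dd : DD (closure {r g a * s, s * t}) (r g a * s) (s * t) 1 :=
    ⟨o1, by rw [D.st.symm.mul_mul_mul_comm, D.ss, D.tt, one_mul], e2,
      notMem_zpowers_of_inverts le_rfl o1 e2, rfl⟩
  have hle : closure {r g a * s, s * t} ≤ R ⊔ zpowers s := (closure_le _).2 (by
    rintro _ (rfl | rfl)
    · exact mul_mem (mem_sup_left A.bR) (mem_sup_right (mem_zpowers s))
    · exact mul_mem (mem_sup_right (mem_zpowers s)) (mem_sup_left D.tm))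
  have tl : ∀ x, t * (x * t) = x → IsConj t x → IsConj t (t * (x * t)) := fun x e h => e.symm ▸ h
  have tk : ∀ x, Commute x t → t * (x * t) = x := fun x c => by
    rw [c.eq, ← mul_assoc, D.tt, one_mul]
  refine D.par_dd hG hn dd (fun d hd => cC ⟨d, D.sylT.le (hle hd)⟩) hn (fun h => n1 ?_) (e1 ▸ n1)
    (tl _ (tk _ D.st) D.sc) (e3 ▸ tl _ (tk _ bt) (A.ca.trans (isConj_r g a)))
    (e1 ▸ tl _ (tk _ A.at') A.ca) fun hc => ?_
  · exact h.trans (isConj_of_r (g := g) (by rw [e3, map_mul, r_fix D.gt])).symm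
  · have m0 : t ∈ closure {r g a * s, s * t} ⊔ zpowers t := mem_sup_right (mem_zpowers t)
    have m1 : s ∈ closure {r g a * s, s * t} ⊔ zpowers t :=
      (mul_mem_cancel_right m0).1 (mem_sup_left dd.tau_mem)
    have e : closure {r g a * s, s * t} ⊔ zpowers t = R ⊔ zpowers s :=
      le_antisymm (sup_le hle (zpowers_le.2 (mem_sup_left D.tm))) (sup_le (h1.trans (K4_le m0
        ((mul_mem_cancel_right m0).1 (mem_sup_left (e1 ▸ dd.J_mem)))
        ((mul_mem_cancel_right m1).1 (mem_sup_left dd.sigma_mem)))) (zpowers_le.2 m1))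
    rw [← hc, e]
    exact odd_c D.sylT

end top

end Sy

end Cfsg.Agent.N16
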