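import Mathlib
import Cfsg.Agent.N16.Sym

/-!
Quotients of the centralizer of `t`; the case `L₂(7)`.
-/

set_option autoImplicit false

namespace Cfsg.Agent.N16

open Subgroup Cfsg.Agent.Inv.Six Cfsg.Agent.Blk.Q8
open scoped commutatorElement

universe u
variable {G : Type u} [Group G] {Γ : Type} [Group Γ]

/-- A quotient of the centralizer of `t`. -/
structure Qt (t : G) (R : Subgroup G) (f : G → Γ) : Prop where
  mul : ∀ x y, Commute x t → Commute y t → f (x * y) = f x * f y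
  ker : ∀ x, Commute x t → (f x = 1 ↔ x ∈ R)
  surj : ∀ γ, ∃ x, Commute x t ∧ f x = γ
  card : Nat.card (centralizer ({t} : Set G)) = Nat.card Γ * Nat.card R

theorem exists_qt {t : G} (ψ : centralizer ({t} : Set G) →* Γ) (hψ : Function.Surjective ψ) :
    ∃ f : G → Γ, Qt t (ψ.ker.map (centralizer {t}).subtype) f := by
  classical
  refine ⟨fun x => if h : Commute x t then ψ ⟨x, mC h⟩ else 1, fun x y hx hy => ?_, fun x hx => ?_,
    fun γ => ?_, ?_⟩
  · simp only [dif_pos hx, dif_pos hy, dif_pos (hx.mul_left hy), ← map_mul]; rfl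
  · simp only [dif_pos hx]
    exact (mem_map_iff_mem (f := (centralizer {t}).subtype) (subtype_injective _)
      (K := ψ.ker) (x := ⟨x, mC hx⟩)).symm
  · obtain ⟨x, rfl⟩ := hψ γ
    exact ⟨x, cC x, dif_pos (cC x)⟩
  · rw [card_map_of_injective (subtype_injective _), card_eq_card_quotient_mul_card_subgroup ψ.ker,
      Nat.card_congr (QuotientGroup.quotientKerEquivOfSurjective ψ hψ).toEquiv]

namespace Qt
variable {t : G} {R : Subgroup G} {f : G → Γ} (F : Qt t R f)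
include F

theorem one : f 1 = 1 := (F.ker 1 (.one_left t)).2 (one_mem R)

theorem inv {x : G} (hx : Commute x t) : f x⁻¹ = (f x)⁻¹ :=
  eq_inv_of_mul_eq_one_left (by rw [← F.mul _ _ hx.inv_left hx, inv_mul_cancel, F.one])

theorem map_r {x y : G} (hx : Commute x t) (hy : Commute y t) : f (r x y) = r (f x) (f y) := by
  rw [r_def, r_def, F.mul _ _ (hx.mul_left hy) hx.inv_left, F.mul _ _ hx hy, F.inv hx]

theorem pow {x : G} (hx : Commute x t) (n : ℕ) : f (x ^ n) = f x ^ n := by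
  induction n with
  | zero => rw [pow_zero, pow_zero, F.one]
  | succ n ih => rw [pow_succ, pow_succ, F.mul _ _ (hx.pow_left n) hx, ih]

theorem cg {x y : G} (hx : Commute x t) (hy : Commute y t) (h : f x = f y) : Cg R x y :=
  (F.ker _ (hy.inv_left.mul_left hx)).1 (by
    rw [F.mul _ _ hy.inv_left hx, F.inv hy, h, inv_mul_cancel])

theorem comm {x y : G} (hx : Commute x t) (hy : Commute y t) (h : Commute x y) :
    Commute (f x) (f y) := by
  rw [← r_eq_iff, ← F.map_r hx hy, r_fix h]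

theorem conj (c : Γ) : Qt t R fun x => r c (f x) :=
  ⟨fun x y hx hy => by rw [F.mul x y hx hy, map_mul],
    fun x hx => (r c).map_eq_one_iff.trans (F.ker x hx), fun γ => by
      obtain ⟨x, h1, h2⟩ := F.surj (r c⁻¹ γ)
      exact ⟨x, h1, by rw [h2, r_r_inv]⟩, F.card⟩

/-- The preimage of a subgroup. -/
def pre (W : Subgroup Γ) : Subgroup G where
  carrier := {x | Commute x t ∧ f x ∈ W}
  one_mem' := ⟨.one_left t, F.one ▸ one_mem W⟩
  mul_mem' := fun {a b} ha hb =>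
    ⟨ha.1.mul_left hb.1, F.mul a b ha.1 hb.1 ▸ mul_mem ha.2 hb.2⟩
  inv_mem' := fun {_} ha => ⟨ha.1.inv_left, F.inv ha.1 ▸ inv_mem ha.2⟩

end Qt

theorem comm_r {t x y : G} (hx : Commute x t) (hy : Commute y t) : Commute (r x y) t :=
  (hx.mul_left hy).mul_left hx.inv_left

namespace Rr
variable {g h t s ρ : G} (D : Rr g h t s ρ (zpowers t)) {f : G → Γ} (F : Qt t (zpowers t) f)
  (o : ∀ u v : Γ, In u → In v → IsConj u v)
include D F o

theorem lift {x : G} (hx : Commute x t) (h : In (f x)) :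
    ∃ c, Commute c t ∧ (x = r c s ∨ x = r c (s * t)) := by
  obtain ⟨c, hc⟩ := isConj_iff.1 (o (f s) (f x) ⟨by rw [← F.mul _ _ D.st D.st, D.ss, F.one],
    fun e => D.sR ((F.ker s D.st).1 e)⟩ h)
  obtain ⟨c, c1, rfl⟩ := F.surj c
  rw [← r_def, ← F.map_r c1 D.st] at hc
  refine ⟨c, c1, ?_⟩
  rw [map_mul, r_fix c1]
  exact (F.cg hx (comm_r c1 D.st) hc.symm).cases D.tt

theorem lift_sq {x : G} (hx : Commute x t) (h : In (f x)) : x * x = 1 := by
  obtain ⟨c, -, rfl | rfl⟩ := D.lift F o hx h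
  · rw [← map_mul, D.ss, map_one]
  · rw [← map_mul, D.st.symm.mul_mul_mul_comm, D.ss, D.tt, one_mul, map_one]

theorem all (hz : IsConj t (s * t)) {u : G} (iu : In u) (c : Commute u t) : IsConj t u := by
  by_cases h : f u = 1
  · rw [((mem_Z D.tt).1 ((F.ker u c).1 h)).resolve_left iu.2]
  obtain ⟨k, -, rfl | rfl⟩ := D.lift F o c ⟨by rw [← F.mul _ _ c c, iu.1, F.one], h⟩
  · exact D.sc.trans (isConj_r _ _)
  · exact hz.trans (isConj_r _ _)

theorem lift_cls (hn : ¬ IsConj t (s * t)) {x : G} (hx : Commute x t) (h : In (f x)) :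
    (IsConj t x ∧ ¬ IsConj t (t * x)) ∨ (¬ IsConj t x ∧ IsConj t (t * x)) := by
  obtain ⟨c, c1, rfl | rfl⟩ := D.lift F o hx h
  · refine Or.inl ⟨D.sc.trans (isConj_r _ _), fun h => hn (h.trans (isConj_of_r (g := c) ?_).symm)⟩
    rw [map_mul, r_fix c1, hx.eq]
  · refine Or.inr ⟨fun h => hn (h.trans (isConj_r _ _).symm), D.sc.trans (isConj_of_r (g := c) ?_)⟩
    rw [← hx.eq, map_mul, r_fix c1, mul_mul_self D.tt]

theorem lift_nc (hn : ¬ IsConj t (s * t)) {v : Γ} (h : In v) :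
    ∃ x, Commute x t ∧ f x = v ∧ ¬ IsConj t x ∧ IsConj t (t * x) := by
  obtain ⟨x, hx, rfl⟩ := F.surj v
  rcases D.lift_cls F o hn hx h with h1 | h1
  · refine ⟨t * x, (Commute.refl t).mul_left hx, ?_, h1.2, ?_⟩
    · rw [F.mul _ _ (.refl t) hx, (F.ker t (.refl t)).2 (mem_zpowers t), one_mul]
    · rw [← mul_assoc, D.tt, one_mul]; exact h1.1
  · exact ⟨x, hx, rfl, h1⟩

theorem not_sq {x : G} : ¬ IsConj t (x * x) := fun h => by
  obtain ⟨c, hc⟩ := isConj_iff.1 h.symm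
  rw [← r_def, map_mul] at hc
  generalize r c x = y at hc
  have h1 : Commute y t := hc ▸ (Commute.refl y).mul_right (.refl y)
  refine D.t1 (hc ▸ ?_)
  by_cases h2 : f y = 1
  · exact Zsq D.tt ((F.ker y h1).1 h2)
  · exact D.lift_sq F o h1 ⟨by rw [← F.mul _ _ h1 h1, hc, (F.ker t (.refl t)).2 (mem_zpowers t)], h2⟩

theorem dd_conj [Finite G] (hG : _root_.commutator G = ⊤) {P : Subgroup Γ} {σ₀ τ₀ : Γ}
    (dd : DD P σ₀ τ₀ 1) (hc : Nat.card Γ = 168) : IsConj t (s * t) := by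
  by_contra hn
  have i1 : In τ₀ := in_iff.2 (by simpa using dd.orderOf_refl 0)
  have i2 : In (σ₀ * τ₀) := in_iff.2 (by simpa using dd.orderOf_refl 1)
  obtain ⟨τ, c1, f1, n1, k1⟩ := D.lift_nc F o hn i1
  obtain ⟨τ', c2, f2, n2, k2⟩ := D.lift_nc F o hn i2
  have s1 := D.lift_sq F o c1 (f1 ▸ i1)
  have s2 := D.lift_sq F o c2 (f2 ▸ i2)
  have c3 := (c2.mul_left c1).pow_left (2 ^ 1)
  have i3 : In (f ((τ' * τ) ^ 2 ^ 1)) := by
    rw [F.pow (c2.mul_left c1), F.mul _ _ c2 c1, f1, f2, mul_mul_self i1.1]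
    exact in_iff.2 dd.orderOf_J
  have o1 : orderOf (τ' * τ) = 2 ^ (1 + 1) := orderOf_eq_prime_pow
    (fun e => i3.2 (by rw [e, F.one])) (by rw [pow_succ, pow_mul, pow_two, D.lift_sq F o c3 i3])
  have e2 : τ * (τ' * τ) * τ⁻¹ = (τ' * τ)⁻¹ := by
    rw [mul_inv_rev, inv_eq_of_mul_eq_one_right s2, ← mul_assoc, mul_inv_cancel_right,
      inv_eq_of_mul_eq_one_right s1]
  have dd' : DD (closure {τ' * τ, τ}) (τ' * τ) τ 1 :=
    ⟨o1, s1, e2, notMem_zpowers_of_inverts le_rfl o1 e2, rfl⟩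
  have n3 : ¬ IsConj t ((τ' * τ) ^ 2 ^ 1) := by
    rw [pow_one, pow_two]; exact D.not_sq F o
  refine D.par_dd hG hn dd' (fun d hd => cC ⟨d, (closure_le _).2 ?_ hd⟩) n1
    (by rwa [mul_mul_self s1]) n3 k1 (by rwa [mul_mul_self s1])
    ((D.lift_cls F o hn c3 i3).resolve_left fun h => n3 h.1).2 fun _ => ⟨21, rfl, ?_⟩
  · rintro _ (rfl | rfl)
    exacts [mC (c2.mul_left c1), mC c1]
  · rw [F.card, hc, Nat.card_zpowers, in_iff.1 D.sx.iz]

end Rr

end Cfsg.Agent.N16
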