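import Mathlib
import Cfsg.Agent.N16.Quot

/-!
The case in which the centralizer of `t` has a quotient `A₅`.
-/

set_option autoImplicit false
set_option maxRecDepth 100000

namespace Cfsg.Agent.N16

open Subgroup Cfsg.Agent.Inv.Six
open scoped commutatorElement

universe u
variable {G : Type u} [Group G]

/-- A double transposition. -/
def u0 : alternatingGroup (Fin 5) := ⟨Equiv.swap 0 1 * Equiv.swap 2 3, by simp⟩

/-- A three-cycle. -/
def γ0 : alternatingGroup (Fin 5) := ⟨Equiv.swap 0 1 * Equiv.swap 1 2, by simp⟩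

theorem a5_conj : ∀ u : alternatingGroup (Fin 5), u * u = 1 → u ≠ 1 →
    ∃ c : alternatingGroup (Fin 5), c * u * c⁻¹ = u0 := by decide +kernel

theorem a5_cen : ∀ x : alternatingGroup (Fin 5), x * u0 = u0 * x →
    x = 1 ∨ x = u0 ∨ x = γ0 * u0 * γ0⁻¹ ∨ x = u0 * (γ0 * u0 * γ0⁻¹) := by decide +kernel

theorem a5_sq : ∀ x : alternatingGroup (Fin 5), x * u0 = u0 * x →
    x * x = 1 ∧ γ0 * x * γ0⁻¹ * u0 = u0 * (γ0 * x * γ0⁻¹) := by decide +kernel

theorem a5_inv : ∀ x : alternatingGroup (Fin 5), x * γ0 * x⁻¹ = γ0⁻¹ →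
    x * u0 * x⁻¹ * u0 ≠ u0 * (x * u0 * x⁻¹) := by decide +kernel

set_option synthInstance.maxSize 2000 in
theorem a5_pig : ∀ x y : alternatingGroup (Fin 5), x * u0 = u0 * x → y * u0 = u0 * y →
    x = 1 ∨ x * u0 = 1 ∨ y = 1 ∨ y * u0 = 1 ∨ x * y = 1 ∨ x * y * u0 = 1 := by decide +kernel

theorem a5_one (u v : alternatingGroup (Fin 5)) (hu : In u) (hv : In v) : IsConj u v :=
  (isConj_iff.2 (a5_conj u hu.1 hu.2)).trans (isConj_iff.2 (a5_conj v hv.1 hv.2)).symm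

/-- The case of a quotient `A₅`. -/
structure Al (g h t s ρ : G) (R : Subgroup G) (f : G → alternatingGroup (Fin 5)) (k : G) : Prop
    extends Rr g h t s ρ R, Qt t R f where
  sq : ∀ a ∈ R, a * a ∈ zpowers t
  fs : f s = u0
  kt : Commute k t
  k3 : orderOf k = 3
  fk : f k = γ0

theorem Rr.exists_al [Finite G] {g h t s ρ : G} {R : Subgroup G} (D : Rr g h t s ρ R)
    {f : G → alternatingGroup (Fin 5)} (F : Qt t R f) (sq : ∀ a ∈ R, a * a ∈ zpowers t) :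
    ∃ f k, Al g h t s ρ R f k := by
  obtain ⟨c, hc⟩ := a5_conj (f s) (by rw [← F.mul _ _ D.st D.st, D.ss, F.one])
    fun e => D.sR ((F.ker s D.st).1 e)
  have F' := F.conj c
  obtain ⟨x, x1, x2⟩ := F'.surj γ0
  obtain ⟨k, k1, k2⟩ := three_part D.el x
  have e : r c (f (x ^ k)) = γ0 := by
    rw [F'.pow x1, x2, ← Nat.mod_add_div k 3, k1, pow_add, pow_mul,
      show γ0 ^ 3 = 1 by decide +kernel, one_pow, mul_one, pow_one]
  refine ⟨_, x ^ k, D, F', sq, hc, x1.pow_left k, orderOf_eq_prime k2 fun e' => ?_, e⟩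
  rw [e', F'.one] at e
  exact absurd e (by decide +kernel)

namespace Al
variable {g h t s ρ : G} {R : Subgroup G} {f : G → alternatingGroup (Fin 5)} {k : G}
  (D : Al g h t s ρ R f k)
include D

theorem ft : f t = 1 := (D.ker t (.refl t)).2 D.tm

theorem memT {x : G} : x ∈ D.toQt.pre (centralizer {u0}) ↔ Commute x t ∧ Commute (f x) u0 :=
  and_congr_right fun _ => mem_centralizer_singleton_iff

theorem two {x : G} (h1 : Commute x t) (h2 : Commute (f x) u0) : Two x :=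
  .of_sq (.of_mem D.pg ((D.ker _ (h1.mul_left h1)).1 (by rw [D.mul _ _ h1 h1, (a5_sq _ h2).1])))

theorem tr : Tr t k (D.toQt.pre (centralizer {u0})) :=
  (D.sxa D.sx.iz D.k3 D.kt).tr (fun a => two_coe.2 (D.two a.2.1 (D.memT.1 a.2).2))
    (D.memT.2 ⟨.refl t, D.ft ▸ .one_left _⟩) (fun a ha => ha.1) fun a ha =>
      D.memT.2 ⟨comm_r D.kt ha.1, by
        rw [D.map_r D.kt ha.1, D.fk]; exact (a5_sq _ (D.memT.1 ha).2).2⟩

theorem sT : s ∈ D.toQt.pre (centralizer {u0}) := D.memT.2 ⟨D.st, D.fs ▸ .refl _⟩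

theorem RT {a : G} (ha : a ∈ R) : a ∈ D.toQt.pre (centralizer {u0}) :=
  D.memT.2 ⟨D.cz a ha, (D.ker a (D.cz a ha)).2 ha ▸ .one_left _⟩

theorem s't : Commute (r k s) t := comm_r D.kt D.st

theorem fs' : f (r k s) = r γ0 u0 := by rw [D.map_r D.kt D.st, D.fk, D.fs]

theorem fu {x : G} (h1 : Commute x t) (h2 : Commute x s) : Commute (f x) u0 :=
  D.fs ▸ D.comm h1 D.st h2

variable [Finite G]

theorem ss' : Commute s (r k s) := D.tr.inv_comm D.sT D.ss

theorem memB {x : G} (h1 : Commute x t) (h2 : Commute x s) : ∃ c ∈ R, Commute c s ∧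
    (x = c ∨ x = s * c ∨ x = r k s * c ∨ x = s * r k s * c) := by
  have key : ∀ p, Commute p t → Commute p s → f x = f p → ∃ c ∈ R, Commute c s ∧ x = p * c :=
    fun p p1 p2 e => ⟨_, D.cg h1 p1 e, p2.inv_left.mul_left h2, by group⟩
  rcases a5_cen _ (D.fu h1 h2) with e | e | e | e
  · exact ⟨x, (D.ker x h1).1 e, h2, Or.inl rfl⟩
  · obtain ⟨c, c1, c2, c3⟩ := key s D.st (.refl s) (e.trans D.fs.symm)
    exact ⟨c, c1, c2, by simp [c3]⟩
  · obtain ⟨c, c1, c2, c3⟩ := key _ D.s't D.ss'.symm (e.trans D.fs'.symm)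
    exact ⟨c, c1, c2, by simp [c3]⟩
  · obtain ⟨c, c1, c2, c3⟩ := key _ (D.st.mul_left D.s't) ((Commute.refl s).mul_left D.ss'.symm)
      (by rw [D.mul _ _ D.st D.s't, D.fs, D.fs']; exact e)
    exact ⟨c, c1, c2, by simp [c3]⟩

theorem kC {c : G} (hc : c ∈ R) (h : Cg (zpowers t) (r s c) c) :
    Cg (zpowers t) (r s (r k c)) (r k c) :=
  (cg_r_iff (D.cz _ (D.nrm k D.kt c hc))).2
    (D.tr.comm_r D.sT (D.RT hc) ((cg_r_iff (D.cz c hc)).1 h))

theorem C_comm {c : G} (hc : c ∈ R) (h : Cg (zpowers t) (r s c) c) : Commute c s := by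
  have T := D.ts
  refine (T.comm_of_inv hc h (((mem_Z D.tt).1 (D.sq c hc)).resolve_right fun e => ?_)).symm
  have h1 := D.nrm k D.kt c hc
  have h2 := D.kC hc h
  have h3 := mul_mem hc h1
  have h4 : Cg (zpowers t) (r s (c * r k c)) (c * r k c) := by
    rw [map_mul]; exact h.mul h2 (nZ (D.cz _ h1))
  have h5 := T.inverts h3 h4 (D.sq _ h3)
  rw [map_mul, T.inverts hc h (D.sq _ hc), T.inverts h1 h2 (D.sq _ h1), ← mul_inv_rev,
    inv_inj] at h5
  have h6 := sq_cg D.tt (D.cz _ h3).inv_left (D.tr.rr_cg (D.RT hc))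
  rw [← mul_inv_rev, (show Commute (r k c) c from h5).mul_mul_mul_comm, ← map_mul, ← map_mul, e,
    r_fix D.kt, r_fix D.kt, D.tt, inv_one] at h6
  exact D.t1 h6

theorem kC' {c : G} (hc : c ∈ R) (h : Commute c s) : Commute (r k c) s :=
  D.C_comm (D.nrm k D.kt c hc) (D.kC hc (.of_eq (r_fix h.symm)))

theorem exists_c (hR : ¬ R ≤ zpowers t) : ∃ c ∈ R, r ρ c ∈ R ∧ c ≠ 1 := by
  obtain ⟨c, hc, h1, h2⟩ : ∃ c ∈ R, Commute c s ∧ c ∉ zpowers t := by
    by_contra! hn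
    exact hR (D.ts.gen (mem_zpowers t) fun c hc h =>
      ⟨hn c hc (D.C_comm hc h), rZ D.gt _ (hn c hc (D.C_comm hc h))⟩)
  have h3 := D.nrm k D.kt c hc
  have h4 := D.kC' hc h1
  have h5 : r k c ∉ zpowers t := fun h => h2 (D.tr.r_mem_Z.1 h)
  have h6 := D.tr.mul_r_notMem (D.RT hc) h2
  generalize r k c = c' at h3 h4 h5 h6
  have k1 : ∀ x ∈ R, Commute x s → x ∉ zpowers t → f (r ρ x) = 1 → ∃ c ∈ R, r ρ c ∈ R ∧ c ≠ 1 :=
    fun x x1 x2 x3 e => ⟨x, x1, (D.ker _ (D.ct x2)).1 e, fun e => x3 (e ▸ one_mem _)⟩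
  have k2 : ∀ x ∈ R, Commute x s → x ∉ zpowers t → f (r ρ x) * u0 = 1 →
      ∃ c ∈ R, r ρ c ∈ R ∧ c ≠ 1 := fun x x1 x2 x3 e =>
    k1 _ (mul_mem x1 D.tm) (x2.mul_left D.st.symm)
      (fun h => x3 ((mul_mem_cancel_right (mem_zpowers t)).1 h))
      (by rw [map_mul, D.ρt, D.mul _ _ (D.ct x2) D.st, D.fs, e])
  have e0 : f (r ρ (c * c')) = f (r ρ c) * f (r ρ c') := by
    rw [map_mul, D.mul _ _ (D.ct h1) (D.ct h4)]
  rcases a5_pig _ _ (D.fu (D.ct h1) (D.cs (D.cz c hc))) (D.fu (D.ct h4) (D.cs (D.cz c' h3))) with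
    e | e | e | e | e | e
  exacts [k1 c hc h1 h2 e, k2 c hc h1 h2 e, k1 c' h3 h4 h5 e, k2 c' h3 h4 h5 e,
    k1 _ (mul_mem hc h3) (h1.mul_left h4) h6 (e0.trans e),
    k2 _ (mul_mem hc h3) (h1.mul_left h4) h6 (e0 ▸ e)]

theorem le_Z : R ≤ zpowers t := by
  by_contra hR
  obtain ⟨c₀, c1, c2, c3⟩ := D.exists_c hR
  obtain ⟨a, y, A⟩ := D.exists_a c1 c2 c3
  have mB : ∀ x, x ∈ centralizer ({t} : Set G) ⊓ centralizer {s} ↔ Commute x t ∧ Commute x s :=
    fun x => and_congr mem_centralizer_singleton_iff mem_centralizer_singleton_iff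
  generalize centralizer ({t} : Set G) ⊓ centralizer {s} = B at mB
  have pB : IsPGroup 2 B := fun x =>
    two_coe.2 (D.two ((mB _).1 x.2).1 (D.fu ((mB _).1 x.2).1 ((mB _).1 x.2).2))
  have tB : t ∈ B := (mB t).2 ⟨.refl t, D.st.symm⟩
  have sB : s ∈ B := (mB s).2 ⟨D.st, .refl s⟩
  have Ba : ∀ x ∈ B, Commute x a := fun x hx => by
    obtain ⟨x1, x2⟩ := (mB x).1 hx
    have h1 := A.uniq _ (D.nrm x x1 a A.aR) (by
      rw [← r_conj, A.ρa]; exact D.nrm _ (D.ct x2) a A.aR)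
    exact r_eq_iff.1 (((mem_Z A.aa).1 h1).resolve_left (A.ia.map _).2)
  have nB : ∀ w, r w a = a → (∀ x, Commute x (r w t) → Commute x (r w s) → Commute x a → x ∈ B) →
      w ∈ normalizer (B : Set G) := fun w w1 w2 => mem_normalizer_fintype fun x hx =>
    w2 (r w x) ((r_commute w).2 ((mB x).1 hx).1) ((r_commute w).2 ((mB x).1 hx).2)
      (w1 ▸ (r_commute w).2 (Ba x hx))
  have yB := nB y (r_fix A.ya) fun x h1 h2 h3 => by
    rw [A.yt] at h1
    rw [A.ys] at h2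
    exact (mB x).2 ⟨by simpa using h1.inv_right.mul_right (h2.mul_right h3.inv_right), h1⟩
  have bB := nB (r g a) (r_fix A.ab.symm) fun x h1 h2 h3 => by
    rw [r_fix A.bt] at h1
    rw [A.bs] at h2
    exact (mB x).2 ⟨h1, by simpa using (h2.mul_right h3.inv_right).mul_right h1.inv_right⟩
  have kB : k ∈ normalizer (B : Set G) := mem_normalizer_fintype fun x hx => by
    obtain ⟨c, c1, c2, e⟩ := D.memB ((mB x).1 hx).1 ((mB x).1 hx).2
    have h1 : r k c ∈ B := (mB _).2 ⟨D.cz _ (D.nrm k D.kt c c1), D.kC' c1 c2⟩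
    have h2 : r k s ∈ B := (mB _).2 ⟨D.s't, D.ss'.symm⟩
    have h3 : r k (r k s) ∈ B := (mB _).2 ⟨comm_r D.kt D.s't, by
      have := (r_commute k).2 ((r_commute k).2 D.ss')
      rwa [D.tr.rrr] at this⟩
    change r k x ∈ B
    rcases e with e | e | e | e <;> rw [e]
    · exact h1
    all_goals simp only [map_mul]
    exacts [mul_mem h2 h1, mul_mem h3 h1, mul_mem (mul_mem h2 h3) h1]
  have h9 := D.syl B pB fun e => D.t1 (mem_bot.1 (e ▸ tB))
  obtain ⟨n, n1, n2⟩ := GT.Tr.exists_conj_le_sylowIn (p := 3) (S := zpowers y) (T := zpowers k)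
    (H := normalizer (B : Set G))
    (IsPGroup.of_card (n := 1) (by rw [Nat.card_zpowers, A.y3, pow_one]))
    (fun h => h9 (by
      rw [← Inv.Fz.card_mul_relIndex (zpowers_le.2 yB), Nat.card_zpowers, A.y3]
      exact mul_dvd_mul_left 3 h))
    (IsPGroup.of_card (n := 1) (by rw [Nat.card_zpowers, D.k3, pow_one])) (zpowers_le.2 kB)
  obtain ⟨i, hi⟩ := n2 k (mem_zpowers k)
  change y ^ i = r n k at hi
  have n3 : r n t ∈ B := (mem_normalizer_iff.1 n1 t).1 tB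
  have n4 : r n t = a := ((mem_Z A.aa).1 ((D.sxa A.ia (((r n).orderOf_eq k).trans D.k3)
    (hi ▸ A.ya.zpow_left i)).two (Ba _ n3) ((r_commute n).2 D.kt.symm)
    (.of_mem pB n3))).resolve_left (D.sx.iz.map _).2
  have n5 : Commute (r n⁻¹ (r g a)) t := by rw [← r_commute n, r_r_inv, n4]; exact A.ab.symm
  have n6 : r (r n⁻¹ (r g a)) k = k⁻¹ := by
    refine (r n).injective ?_
    rw [← r_conj, r_r_inv, map_inv, ← hi, map_zpow, A.by', inv_zpow]
  have n7 : r n⁻¹ (r g a) ∈ normalizer (B : Set G) :=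
    mul_mem (mul_mem (inv_mem n1) bB) (inv_mem (inv_mem n1))
  have n8 := (mB _).1 ((mem_normalizer_iff.1 n7 s).1 sB)
  have n9 := D.fu n8.1 n8.2
  rw [← r_def, D.map_r n5 D.st, D.fs] at n9
  refine a5_inv _ ?_ n9
  rw [← r_def, ← D.fk, ← D.map_r n5 D.kt, n6, D.inv D.kt]

omit [Finite G] in
theorem five {S : Set G} (hS : S.Finite) {x0 x1 x2 x3 x4 : G} (m0 : x0 ∈ S) (m1 : x1 ∈ S)
    (m2 : x2 ∈ S) (m3 : x3 ∈ S) (m4 : x4 ∈ S) (c0 : Commute x0 t) (c1 : Commute x1 t)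
    (c2 : Commute x2 t) (c3 : Commute x3 t) (c4 : ¬ Commute x4 t) (f0 : f x0 = 1) (f1 : f x1 = u0)
    (f2 : f x2 = r γ0 u0) (f3 : f x3 = r γ0 (r γ0 u0)) : 5 ≤ S.ncard := by
  classical
  have h1 : ((({some 1, some u0, some (γ0 * u0 * γ0⁻¹), some (γ0 * (γ0 * u0 * γ0⁻¹) * γ0⁻¹), none} :
      Finset (Option (alternatingGroup (Fin 5)))) : Set _)) ⊆
      (fun x => if Commute x t then some (f x) else none) '' S := by
    intro x hx
    simp only [Finset.coe_insert, Finset.coe_singleton, Set.mem_insert_iff,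
      Set.mem_singleton_iff] at hx
    rcases hx with rfl | rfl | rfl | rfl | rfl
    · exact ⟨x0, m0, by simp only [if_pos c0, f0]⟩
    · exact ⟨x1, m1, by simp only [if_pos c1, f1]⟩
    · exact ⟨x2, m2, by simp only [if_pos c2, f2]; rfl⟩
    · exact ⟨x3, m3, by simp only [if_pos c3, f3]; rfl⟩
    · exact ⟨x4, m4, if_neg c4⟩
  have h2 := (Set.ncard_le_ncard h1 (hS.image _)).trans (Set.ncard_image_le hS)
  rw [Set.ncard_coe_finset] at h2
  exact le_trans (by decide +kernel) h2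

end Al

theorem Al.conj [Finite G] {g h t s ρ : G} {f : G → alternatingGroup (Fin 5)} {k : G}
    (D : Al g h t s ρ (zpowers t) f k) (hG : _root_.commutator G = ⊤) : IsConj t (s * t) := by
  by_contra hn
  have s1 : r k s * r k s = 1 := by rw [← map_mul, D.ss, map_one]
  have Z1 : s * s ∈ zpowers t := D.ss ▸ one_mem _
  have Z2 : r k s * r k s ∈ zpowers t := s1 ▸ one_mem _
  have Z3 : ⁅r k s, s⁆ ∈ zpowers t := commutatorElement_eq_one_iff_commute.2 D.ss'.symm ▸ one_mem _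
  have m1 := K4_1 t s (r k s)
  have m2 := K4_2 t s (r k s)
  have m3 := K4_3 t s (r k s)
  have mT : ∀ x, Commute x t → Commute x s → x ∈ K4 t s (r k s) := fun x h1 h2 => by
    obtain ⟨c, c1, -, e⟩ := D.memB h1 h2
    have c2 := Z_le_K4 t s (r k s) c1
    rcases e with e | e | e | e <;> rw [e]
    exacts [c2, mul_mem m2 c2, mul_mem m3 c2, mul_mem (mul_mem m2 m3) c2]
  have mT' : ∀ x ∈ K4 t s (r k s), Commute x t ∧ Commute x s := fun x hx =>
    ⟨K4_comm' D.st D.s't D.ss'.symm hx m1, K4_comm' D.st D.s't D.ss'.symm hx m2⟩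
  have ρt : ¬ Commute ρ t := fun h => D.s_ne (by rw [← D.ρt, r_fix h])
  have c8 : Nat.card (K4 t s (r k s)) = 8 := by
    rw [K4, FG.ZL.card_ext (norm_K2 D.st D.s't Z1 Z3) (mem_sup_left Z2) fun h => ?_,
      FG.ZL.card_ext (norm_Z D.st) Z1 D.sR, Nat.card_zpowers, in_iff.1 D.sx.iz]
    have h1 := D.fs'
    rcases mem_E4 D.tt D.st D.ss h with (e | e) | (e | e) <;> rw [e] at h1
    · rw [D.one] at h1; exact absurd h1 (by decide +kernel)
    · rw [D.ft] at h1; exact absurd h1 (by decide +kernel)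
    · rw [D.fs] at h1; exact absurd h1 (by decide +kernel)
    · rw [D.mul _ _ D.st (.refl t), D.fs, D.ft] at h1; exact absurd h1 (by decide +kernel)
  have c16 : Nat.card ↥(K4 t s (r k s) ⊔ zpowers ρ) = 16 := by
    rw [FG.ZL.card_ext (mem_normalizer_fintype fun x hx => mT (r ρ x) (D.ct (mT' x hx).2)
      (D.cs (mT' x hx).1)) (D.ρρ ▸ one_mem _) fun h => ρt (mT' ρ h).1, c8]
  have c2 := comm_r D.kt D.s't
  have m4 : r k (r k s) ∈ K4 t s (r k s) := mT _ c2 (by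
    have := (r_commute k).2 ((r_commute k).2 D.ss')
    rwa [D.tr.rrr] at this)
  have f2 : f (r k (r k s)) = r γ0 (r γ0 u0) := by rw [D.map_r D.kt D.s't, D.fk, D.fs']
  have mρ : ρ ∈ K4 t s (r k s) ⊔ zpowers ρ := mem_sup_right (mem_zpowers ρ)
  have ft : ∀ x, Commute x t → f (x * t) = f x := fun x c => by
    rw [D.mul _ _ c (.refl t), D.ft, mul_one]
  have tt := Commute.refl t
  have nc : ∀ x, IsConj t (r k x * t) → IsConj t (x * t) := fun x h =>
    h.trans (isConj_of_r (g := k) (by rw [map_mul, r_fix D.kt])).symm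
  refine D.par8 hG hn c16 (m := 15) rfl ?_ (D.five (Set.toFinite _) ⟨.refl t, mem_sup_left m1⟩
    ⟨D.sc, mem_sup_left m2⟩ ⟨D.sc.trans (isConj_r k s), mem_sup_left m3⟩
    ⟨(D.sc.trans (isConj_r k s)).trans (isConj_r k _), mem_sup_left m4⟩ ⟨D.ρc, mρ⟩ tt D.st
    D.s't c2 ρt D.ft D.fs D.fs' f2) ?_
  · rw [D.card, nat_card_alternatingGroup, Nat.card_zpowers, in_iff.1 D.sx.iz]
    simp [Nat.factorial]
  have h1 := D.five (S := ((K4 t s (r k s) ⊔ zpowers ρ : Subgroup G) : Set G) \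
      {y | IsConj t y ∧ y ∈ K4 t s (r k s) ⊔ zpowers ρ}) (Set.toFinite _)
    ⟨one_mem _, fun h => (In.conj D.sx.iz h.1).2 rfl⟩
    ⟨mem_sup_left (mul_mem m2 m1), fun h => hn h.1⟩
    ⟨mem_sup_left (mul_mem m3 m1), fun h => hn (nc _ h.1)⟩
    ⟨mem_sup_left (mul_mem m4 m1), fun h => hn (nc _ (nc _ h.1))⟩
    ⟨mul_mem (mem_sup_left m1) mρ, fun h => D.s_ne (by
      have := (In.conj D.sx.iz h.1).1
      rw [D.ρz] at this
      rw [eq_inv_of_mul_eq_one_left this, inv_eq_of_mul_eq_one_right D.tt])⟩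
    (.one_left t) (D.st.mul_left tt) (D.s't.mul_left tt) (c2.mul_left tt)
    (fun h => ρt (by simpa using tt.inv_left.mul_left h)) D.one ((ft _ D.st).trans D.fs)
    ((ft _ D.s't).trans D.fs') ((ft _ c2).trans f2)
  rw [Set.ncard_diff fun y hy => hy.2,
    show ((K4 t s (r k s) ⊔ zpowers ρ : Subgroup G) : Set G).ncard = 16 from c16] at h1
  omega

end Cfsg.Agent.N16
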