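import Mathlib
import Cfsg.Agent.N16.Sym

/-!
The case in which the centralizer of `t` has a quotient `S₃`: all involutions are conjugate.
-/

set_option autoImplicit false

namespace Cfsg.Agent.N16

open Subgroup Cfsg.Agent.Inv.Six
open scoped commutatorElement

universe u
variable {G : Type u} [Group G]

namespace Sy
variable {g h t s ρ : G} {R : Subgroup G} (D : Sy g h t s ρ R) {a y : G} (A : Aa g h t s ρ R a y)
include D A

theorem mem_t {m : G} (hm : r m a = t) : r m t ∈ R := by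
  by_contra h1
  have c : ∀ x, Commute x a → Commute (r m x) t := fun x hx => hm ▸ (r_commute m).2 hx
  have k : ∀ x, r m (r y x) ∈ R → r m x ∈ R := fun x hx => by
    have := D.nrm _ (c y A.ya).inv_left _ hx
    rwa [← r_conj m y x, r_inv_r] at this
  have h2 : r m s ∉ R := fun h => h1 (k t (A.yt ▸ h))
  have h3 := D.idx _ _ ⟨c s A.as.symm, (Two.of_inv D.ss).map _, h2⟩
    ⟨c t A.at'.symm, (Two.of_inv D.tt).map _, h1⟩ (by
      rw [← map_mul]; exact ((Two.of_inv D.ss).mul (.of_inv D.tt) D.st).map _)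
  refine h2 (k s ?_)
  rw [A.ys, map_mul, map_mul, hm]
  exact mul_mem h3 D.tm

theorem mem_s {m : G} (hm : r m a = t) : r m s ∈ R := by
  have := D.mem_t A (m := m * y) (by rw [← r_r, r_fix A.ya, hm])
  rwa [← r_r, A.yt] at this

variable [Finite G]

theorem x_a {x : G} (hx : x ∈ R) (h : r x s = s * t) : r x a = a := by
  have xt := r_fix (D.cz x hx)
  have h1 : r x (s * t) = s := by rw [map_mul, h, xt, mul_mul_self D.tt]
  have h2 : Commute (r x a) s := h1 ▸ (r_commute x).2 (A.as.mul_right A.at')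
  rcases mem_E4 D.tt A.at' A.aa (D.memW A (D.nrm x (D.cz x hx) a A.aR) h2) with
    (e | e) | (e | e)
  · exact absurd e (A.ia.map _).2
  · exact absurd ((r x).injective (e.trans xt.symm)) A.a_ne
  · exact e
  have h3 : r x (s * t * a) = s * t * a := by rw [map_mul, h1, e, A.at'.eq, mul_assoc]
  have := D.mem_t A (m := y * (y * (x * (y * (y * x))))) (by
    simp only [← r_r]; rw [e, A.y_at, h1, A.ys, A.yu])
  simp only [← r_r] at this
  rw [xt, A.yt, A.ys, h3, A.yu, A.yt] at this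
  exact absurd this D.sR

theorem C_a {c : G} (hc : c ∈ R) (h : Cg (zpowers t) (r s c) c) : Commute a c := by
  rcases h.cases D.tt with e | e
  · exact K2_comm A.at' (.refl a) (D.memW A hc (r_eq_iff.1 e).symm)
  · exact (r_eq_iff.1 (D.x_a A hc (r_swap D.tt (D.cz c hc) D.st e))).symm

theorem a_Z2 : a ∈ Z2 t R := by
  have T := D.ts
  refine T.mem_Z2 A.aR fun c hc => (T.gen (A := T.CZ a) ⟨D.tm, ?_⟩ (fun c hc h => ?_) hc).2
  · exact commutatorElement_eq_one_iff_commute.2 A.at' ▸ one_mem _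
  · have h1 : ⁅a, c⁆ ∈ zpowers t :=
      commutatorElement_eq_one_iff_commute.2 (D.C_a A hc h) ▸ one_mem _
    exact ⟨⟨hc, h1⟩, T.nx c hc, T.comm_r A.aR hc h1⟩

theorem not_cen {x : G} (hx : x ∈ R) (h : r s x = x * t) : ¬ R ≤ CR R a (r g a) := fun hR => by
  have T := D.ts
  obtain ⟨w, w1, w2⟩ := D.key a y A.ia A.y3 A.ya
  have m1 : r w⁻¹ a = t := by rw [← w1, r_inv_r]
  have p1 := D.mem_t A m1
  have p2 := D.mem_s A m1
  have p3 : r g (r w⁻¹ t) = r w⁻¹ s := by rw [← A.yt, ← r_conj w⁻¹ y t, ← w2, r_inv_r]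
  have k : ∀ c ∈ R, Commute c (r w⁻¹ t) → Commute c (r w⁻¹ s) →
      c ∈ K4 t (r w⁻¹ t) (r w⁻¹ s) := fun c hc c1 c2 => by
    rw [← r_commute w, r_r_inv] at c1 c2
    exact r_inv_r w c ▸ K4_map (m1 ▸ K4_1 _ _ _) (K4_2 _ _ _) (K4_3 _ _ _)
      (D.memE' A ((Two.of_mem D.pg hc).map _) c1 c2)
  have i1 : r w⁻¹ t * r w⁻¹ t = 1 := (D.sx.iz.map _).1
  have i2 : r w⁻¹ s * r w⁻¹ s = 1 := by rw [← map_mul, D.ss, map_one]
  have i3 : Commute (r w⁻¹ s) (r w⁻¹ t) := (r_commute _).2 D.st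
  rw [← p3] at p2 k i2 i3
  generalize r w⁻¹ t = p at p1 p2 k i1 i2 i3
  have ZE := Z_le_K4 t a (r g a)
  have pE : p ∈ K4 t a (r g a) := by
    rcases mem_K4 (D.cz _ p1) (D.cz _ p2) (i1 ▸ one_mem _) (i2 ▸ one_mem _)
      (commutatorElement_eq_one_iff_commute.2 i3 ▸ one_mem _)
      (k a A.aR (mem_CR.1 (hR p1)).2.1 (mem_CR.1 (hR p2)).2.1) with e | e | e | e
    · exact absurd e A.aZ
    · exact (e.mem_iff ZE).1 (K4_2 _ _ _)
    · exact T.rrr p ▸ A.gE (A.gE ((e.mem_iff ZE).1 (K4_2 _ _ _)))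
    · exact T.rrr p ▸ A.gE (((T.rr_cg p1).mem_iff ZE).2 (inv_mem ((e.mem_iff ZE).1 (K4_2 _ _ _))))
  have xc := fun e he => K4_comm (e := e) (D.cz x hx) (mem_CR.1 (hR hx)).2.1.symm
    (mem_CR.1 (hR hx)).2.2.symm he
  exact A.notE (K4_le (K4_1 _ _ _) pE (A.gE pE) (k x hx (xc _ pE) (xc _ (A.gE pE)))) h

theorem CR_le : CR R a (r g a) ≤ K4 t a (r g a) := by
  have T := D.ts
  have a2 := D.a_Z2 A
  have tZ : t ∈ CR R a (r g a) := mem_CR.2 ⟨D.tm, A.at', A.bt⟩
  have aZ : a ∈ CR R a (r g a) := mem_CR.2 ⟨A.aR, .refl a, A.ab.symm⟩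
  have WZ : zpowers t ⊔ zpowers a ≤ CR R a (r g a) := sup_le (zpowers_le.2 tZ) (zpowers_le.2 aZ)
  have T' := T.sub (A := CR R a (r g a)) (fun c hc => (mem_CR.1 hc).1) tZ (fun c => T.r_CR a2)
    fun c hc => by
      obtain ⟨c1, c2, c3⟩ := mem_CR.1 hc
      refine mem_CR.2 ⟨T.ns c c1, ?_, ?_⟩
      · rw [← r_commute s, r_inv_self D.ss, r_fix A.as.symm]; exact c2
      · rw [← r_commute s, r_inv_self D.ss, A.sb]
        exact (c2.mul_left c3).mul_left (D.cz c c1).symm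
  refine T'.gen (K4_1 _ _ _) fun c hc h => ?_
  have c1 := (mem_CR.1 hc).1
  rcases h.cases D.tt with e | e
  · have := A.W_le (D.memW A c1 (r_eq_iff.1 e).symm)
    exact ⟨this, A.gE this⟩
  refine absurd (T.gen tZ fun d hd h' => ?_) (D.not_cen A c1 e)
  refine (fun h => ⟨h, T.r_CR a2 h⟩) ?_
  rcases h'.cases D.tt with e' | e'
  · exact WZ (D.memW A hd (r_eq_iff.1 e').symm)
  · refine (mul_mem_cancel_left (inv_mem hc)).1 (WZ (D.memW A (mul_mem (inv_mem c1) hd)
      (r_eq_iff.1 ?_).symm))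
    rw [map_mul, map_inv, e, e', (D.cz c c1).eq, mul_inv_rev, mul_assoc, (D.cz d hd).eq,
      inv_mul_cancel_left]

theorem exists_y {x : G} (hx : x ∈ R) (h : r s x = x * t) :
    ∃ v, orderOf v = 3 ∧ r v t = a ∧ r v a = a * t := by
  have T := D.ts
  obtain ⟨n, n1, n2⟩ : ∃ n ∈ R, ¬ Commute a n := by
    by_contra! hn
    exact D.not_cen A hx h fun c hc => mem_CR.2 ⟨hc, hn c hc, by
      rw [← T.rrr c, r_commute]; exact hn _ (T.nx _ (T.nx _ hc))⟩
  have n3 : r n a = a * t := by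
    rw [r_br, anti D.tt (br_symm (Z2_br (D.a_Z2 A) n1)) fun c => n2 c.symm, A.at'.eq]
  have n4 := r_fix (D.cz n n1)
  have x1 := r_swap D.tt (D.cz x hx) D.st h
  have x2 := D.x_a A hx x1
  have k1 : r (r ρ (x * r g a)) t = t * a := by
    rw [← D.ρs, r_conj, ← r_r, A.bs, map_mul (r x), map_mul (r x), x1, x2, r_fix (D.cz x hx),
      mul_mul_self D.tt, map_mul, A.ρa]
  have k2 : r (r ρ (x * r g a)) a = a := by
    nth_rewrite 2 [← A.ρa]
    rw [r_conj, ← r_r, r_fix A.ab.symm, x2, A.ρa]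
  generalize r ρ (x * r g a) = n' at k1 k2
  have u1 : r (n * n') t = a := by
    rw [← r_r, k1, map_mul, n4, n3, A.at'.eq, ← mul_assoc, D.tt, one_mul]
  have u2 : r (n * n') a = a * t := by rw [← r_r, k2, n3]
  have u3 : r (n * n') (a * t) = t := by
    rw [map_mul, u1, u2, A.at'.eq, mul_mul_self A.aa]
  obtain ⟨k, k3, k4⟩ := three_part D.el (n * n')
  have v1 : r ((n * n') ^ k) t = a := by rw [cyc (by rw [u1, u2, u3]) k3, u1]
  exact ⟨_, orderOf_eq_prime k4 fun e => A.a_ne (by rw [← v1, e, r_one]), v1,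
    by rw [cyc (by rw [u2, u3, u1]) k3, u2]⟩

theorem cls_a (hz : IsConj t (s * t)) {v : G} (v3 : orderOf v = 3) (vt : r v t = a)
    (va : r v a = a * t) {c : G} (ic : In c) (ct : Commute c t) (ca : Commute c a) :
    IsConj t c := by
  have T := D.ts
  have b2 := T.r_Z2 (D.a_Z2 A)
  by_contra hn
  have vv : r v (a * t) = t := by rw [map_mul, vt, va, A.at'.eq, mul_mul_self A.aa]
  have nb : ∀ d, In d → Commute d t → Commute d a → ¬ IsConj t d →
      d ∈ R ∧ ¬ Commute (r g a) d := fun d id dt da hd => by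
    have h1 : d ∈ R := by_contra fun h => hd (D.out hz id dt h)
    exact ⟨h1, fun h => hd (A.clsE hz (D.CR_le A (mem_CR.2 ⟨h1, da.symm, h⟩)) id.2)⟩
  obtain ⟨cR, cb⟩ := nb c ic ct ca hn
  have key : ∀ d, In d → Commute d t → Commute d a → ¬ IsConj t d →
      ∃ e ∈ zpowers t ⊔ zpowers a, d = c * e := fun d id dt da hd => by
    obtain ⟨dR, db⟩ := nb d id dt da hd
    have h1 : c * d ∈ K4 t a (r g a) := D.CR_le A (mem_CR.2 ⟨mul_mem cR dR,
      ca.symm.mul_right da.symm, (T.cmul b2 cR dR).2 (iff_of_false cb db)⟩)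
    have h2 := K4_sq D.tt A.at' A.bt A.aa A.bb A.ab.symm h1
    have h3 : Commute (c * d) c := by
      refine (Commute.refl c).mul_left ?_
      rw [mul_eq_one_iff_eq_inv, mul_inv_rev, inv_eq_of_mul_eq_one_right ic.1,
        inv_eq_of_mul_eq_one_right id.1] at h2
      exact h2.symm
    refine ⟨c * d, ?_, by rw [← mul_assoc, ic.1, one_mul]⟩
    rcases A.memE h1 with e | e | e | e
    · exact mem_sup_left e
    · exact (e.mem_iff le_sup_left).2 (mem_sup_right (mem_zpowers a))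
    · exact absurd ((e.commute_iff ct).1 h3) cb
    · exact absurd (by simpa [← mul_assoc, A.aa] using ca.symm.mul_left ((e.commute_iff ct).1 h3)) cb
  have st : ∀ d, Commute d t → Commute d a → Commute (r v d) t ∧ Commute (r v d) a :=
    fun d dt da => ⟨vv ▸ (r_commute v).2 (da.mul_right dt), vt ▸ (r_commute v).2 dt⟩
  obtain ⟨c1, c2⟩ := st c ct ca
  obtain ⟨c3, c4⟩ := st _ c1 c2
  have n1 : ¬ IsConj t (r v c) := fun h => hn (h.trans (isConj_r v c).symm)
  obtain ⟨e1, he1, k1⟩ := key _ (ic.map _) c1 c2 n1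
  obtain ⟨e2, he2, k2⟩ := key _ ((ic.map _).map _) c3 c4 fun h => n1 (h.trans (isConj_r v _).symm)
  have k3 : r v (c * e2) = c := by
    rw [← k2, r_r, r_r, ← pow_three', ← v3, pow_orderOf_eq_one, r_one]
  have cW := fun e he => K2_comm (e := e) ct ca he
  have he := mul_mem he1 he2
  have k4 : c * (c * e1) * (c * e2) = c * (e1 * e2) := by
    rw [← mul_assoc c c, ic.1, one_mul, ← mul_assoc, ← (cW e1 he1).eq, mul_assoc]
  have k5 : r v (c * (e1 * e2)) = c * (e1 * e2) := by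
    have h1 := ((Commute.refl c).mul_right (cW e1 he1)).mul_right
      ((Commute.refl c).mul_right (cW e2 he2))
    rw [← k4, map_mul, map_mul, k3, ← k1, k2, k1, ← h1.eq]; simp only [mul_assoc]
  have ee := K4_sq D.tt A.at' A.bt A.aa A.bb A.ab.symm (A.W_le he)
  have k6 : c = c * (e1 * e2) * (e1 * e2) := (mul_mul_self ee).symm
  have fb : ¬ Commute (r g a) (c * (e1 * e2)) := fun h => cb
    (k6 ▸ h.mul_right (K2_comm A.bt A.ab.symm he))
  have fR : c * (e1 * e2) ∈ R := mul_mem cR (A.E_le (A.W_le he))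
  have i1 : In (c * (e1 * e2)) := ⟨by rw [(cW _ he).symm.mul_mul_mul_comm, ic.1, ee, one_mul],
    fun e => fb (e ▸ Commute.one_right _)⟩
  generalize c * (e1 * e2) = f at *
  have f1 := D.cls i1 v3 (r_eq_iff.1 k5)
  have f2 : IsConj t (f * t) := f1.trans (isConj_of_r (g := r g a) (by
    rw [r_br, anti D.tt (Z2_br b2 fR) fb, (D.cz f fR).eq]))
  have f3 : IsConj t (f * a) := f2.trans (isConj_of_r (g := v) (by rw [map_mul, k5, vt]))
  have f4 : IsConj t (f * (a * t)) := f3.trans (isConj_of_r (g := v) (by rw [map_mul, k5, va]))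
  rcases mem_E4 D.tt A.at' A.aa he with (e | e) | (e | e) <;> rw [e] at k6 <;> rw [k6] at hn
  exacts [hn (by rwa [mul_one]), hn f2, hn f3, hn f4]

theorem top_in (hz : IsConj t (s * t)) {u : G} (iu : In u) (hu : u ∈ R) : IsConj t u := by
  have T := D.ts
  by_cases hx : ∀ c ∈ R, Cg (zpowers t) (r s c) c → Commute c s
  · exact A.clsE hz (D.le_E A hx hu) iu.2
  push Not at hx
  obtain ⟨x, x1, x2, x3⟩ := hx
  obtain ⟨v, v3, vt, va⟩ := D.exists_y A x1
    ((x2.cases D.tt).resolve_left fun e => x3 (r_eq_iff.1 e).symm)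
  have k := fun c ic hc => D.cls_a A hz v3 vt va (c := c) ic (D.cz c hc)
  have a2 := D.a_Z2 A
  by_cases h1 : Commute a u
  · exact k u iu hu h1.symm
  by_cases h2 : Commute (r g a) u
  · exact (k _ ((iu.map _).map _) (T.nx _ (T.nx _ hu)) (by
      rw [← T.rrr a, r_commute, r_commute]; exact h2.symm)).trans
      ((isConj_r g u).trans (isConj_r g _)).symm
  · exact (k _ (iu.map _) (T.nx _ hu) (T.c_r.2 ((T.c_rr a2 hu).2 (iff_of_false h1 h2))).symm).trans
      (isConj_r g u).symm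

omit A in
theorem all (hG : _root_.commutator G = ⊤) {u : G} (iu : In u) (c : Commute u t) : IsConj t u := by
  by_cases hA : ∀ c ∈ R, r ρ c ∈ R → c = 1
  · by_cases hu : u ∈ R
    · rw [D.bot_in hA iu hu]
    · exact D.out (D.bot_conj hA hG) iu c hu
  push Not at hA
  obtain ⟨c₀, h1, h2, h3⟩ := hA
  obtain ⟨a, y, A⟩ := D.exists_a h1 h2 h3
  by_cases hu : u ∈ R
  · exact D.top_in A (D.top_conj A hG) iu hu
  · exact D.out (D.top_conj A hG) iu c hu

end Sy

end Cfsg.Agent.N16
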