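import Mathlib
import Cfsg.Agent.N16.SymA
import Cfsg.Agent.N16.Alt
import Cfsg.Agent.Cl.LinearBasic

/-!
All involutions are conjugate.
-/

set_option autoImplicit false

namespace Cfsg.Agent.N16

open Subgroup Cfsg.Agent.Inv.Six Cfsg.Agent.Blk.Q8

theorem psl7 : Nat.card (Matrix.ProjectiveSpecialLinearGroup (Fin 2) (ZMod 7)) = 168 ∧
    (∀ u v : Matrix.ProjectiveSpecialLinearGroup (Fin 2) (ZMod 7), In u → In v → IsConj u v) ∧
    ∃ (P : Subgroup (Matrix.ProjectiveSpecialLinearGroup (Fin 2) (ZMod 7))) (σ τ : _),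
      DD P σ τ 1 := by
  have h2 : (2 : ZMod 7) ≠ 0 := by decide
  haveI : Fact (Nat.Prime 7) := ⟨by norm_num⟩
  have hc : Nat.card (Matrix.ProjectiveSpecialLinearGroup (Fin 2) (ZMod 7)) = 168 := by
    have h1 := Cl.card_psl_two_mul (F := ZMod 7)
    rw [Nat.card_zmod] at h1
    have h3 : 2 * Nat.card (Matrix.ProjectiveSpecialLinearGroup (Fin 2) (ZMod 7)) = 336 := h1
    omega
  refine ⟨hc, fun u v hu hv => Cl.L2.isConjS_of_orderOf_two (in_iff.1 hu) (in_iff.1 hv), ?_⟩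
  obtain ⟨P⟩ : Nonempty (Sylow 2 (Matrix.ProjectiveSpecialLinearGroup (Fin 2) (ZMod 7))) :=
    Sylow.nonempty
  obtain ⟨σ, τ, k, dd⟩ := FG.ZL.psl_dd (F := ZMod 7) h2 P
  obtain rfl : k = 1 := by
    have h1 := P.toSubgroup.card_mul_index
    have h2 := P.not_dvd_index
    have h3 : Nat.card P.toSubgroup = 2 ^ (k + 2) := dd.card
    rw [hc, h3] at h1
    rcases k with _ | _ | k
    · omega
    · rfl
    · rw [show 2 ^ (k + 1 + 1 + 2) = 16 * 2 ^ k by ring, mul_assoc] at h1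
      omega
  exact ⟨P, σ, τ, dd⟩

universe u
variable {G : Type u} [Group G] [Finite G]

namespace Dat
variable {g h t s ρ : G} (D : Dat g h t s ρ)
include D

omit [Finite G] in
theorem rr {Γ : Type} [Group Γ] {R : Subgroup G} {f : G → Γ} (F : Qt t R f) (h1 : t ∈ R)
    (h2 : ∀ a ∈ R, Commute a t) (h3 : ∀ a ∈ R, a * a ∈ zpowers t) : Rr g h t s ρ R :=
  ⟨D, fun a => two_coe.2 (.of_sq (.of_inv (Zsq D.tt (h3 a a.2)))), h1, h2, fun x hx a ha =>
    (F.ker _ (comm_r hx (h2 a ha))).1 (by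
      rw [F.map_r hx (h2 a ha), (F.ker a (h2 a ha)).2 ha, map_one])⟩

theorem all (hG : _root_.commutator G = ⊤) {u : G} (iu : In u) (c : Commute u t) : IsConj t u := by
  have sc := D.sx.sc
  have pt : pz t ⟨t, mC (.refl t)⟩ = 1 := pz_eq_one.2 (mem_zpowers t)
  rcases S3331.concl _ _ rfl _ sc with ⟨N, _, h1, h2, h3 | ⟨⟨e⟩⟩⟩ | ⟨N, _, -, h2, ⟨e⟩⟩ | ⟨⟨e⟩⟩
  · exfalso
    have := isCyclic_of_prime_card (p := 3) h3
    let π := (QuotientGroup.mk' N).comp (pz t)
    have h4 : π ⟨s, mC D.st⟩ * π ⟨g, mC D.gt⟩ * (π ⟨s, mC D.st⟩)⁻¹ = (π ⟨g, mC D.gt⟩)⁻¹ := by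
      rw [← map_inv, ← map_inv, ← map_mul, ← map_mul]
      exact congrArg π (Subtype.ext D.sg)
    rw [(IsMulCommutative.is_comm (M := _ ⧸ N)).comm (π ⟨s, mC D.st⟩), mul_inv_cancel_right,
      eq_inv_iff_mul_eq_one, ← map_mul] at h4
    have h5 : pz t ⟨g, mC D.gt⟩ ∈ N := Ch.FT3.mem_of_coprime (show Nat.Coprime 2 3 by norm_num)
      (by rw [pow_two, ← map_mul]; exact (QuotientGroup.eq_one_iff _).1 h4)
      (by rw [← sc.ord, pow_orderOf_eq_one]; exact one_mem N)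
    have := sc.ord ▸ N.orderOf_dvd_natCard h5
    exact absurd (Nat.Coprime.eq_one_of_dvd h2.symm this) (by norm_num)
  · have hk : (e.toMonoidHom.comp (QuotientGroup.mk' N)).ker = N := by
      ext a; simp
    obtain ⟨R, L⟩ := D.sx.loc_of_quot (e.toMonoidHom.comp (QuotientGroup.mk' N))
      (e.surjective.comp (QuotientGroup.mk'_surjective N)) (hk.symm ▸ h1) (hk.symm ▸ h2)
    exact Sy.all ⟨⟨D, L.pg, L.zm, L.cz, L.nrm⟩, L.idx⟩ hG iu c
  · let ψ := (e.toMonoidHom.comp (QuotientGroup.mk' N)).comp (pz t)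
    obtain ⟨f, F⟩ := exists_qt ψ
      ((e.surjective.comp (QuotientGroup.mk'_surjective N)).comp (pz_surj t))
    have sq : ∀ a ∈ ψ.ker.map (centralizer {t}).subtype, a * a ∈ zpowers t := by
      rintro _ ⟨a, ha, rfl⟩
      have h3 : pz t a ∈ N := by simpa [ψ] using ha
      exact (pz_eq_one (a := a * a)).1 (by rw [map_mul, ← pow_two, h2 _ h3])
    have D' := D.rr F ⟨⟨t, mC (.refl t)⟩, by
      change e (QuotientGroup.mk' N (pz t _)) = 1
      rw [pt, map_one, map_one], rfl⟩ (by rintro _ ⟨a, -, rfl⟩; exact cC a) sq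
    obtain ⟨f, k, A⟩ := D'.exists_al F sq
    generalize ψ.ker.map (centralizer {t}).subtype = R at A
    obtain rfl : R = zpowers t := le_antisymm A.le_Z (zpowers_le.2 A.tm)
    exact A.toRr.all A.toQt a5_one (A.conj hG) iu c
  · obtain ⟨f, F⟩ := exists_qt (e.toMonoidHom.comp (pz t)) (e.surjective.comp (pz_surj t))
    have hk : (e.toMonoidHom.comp (pz t)).ker.map (centralizer {t}).subtype = zpowers t := by
      refine le_antisymm ?_ (zpowers_le.2 ⟨⟨t, mC (.refl t)⟩, by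
        change e (pz t _) = 1
        rw [pt, map_one], rfl⟩)
      rintro _ ⟨a, ha, rfl⟩
      exact pz_eq_one.1 (e.map_eq_one_iff.1 ha)
    rw [hk] at F
    have D' := D.rr F (mem_zpowers t) (fun a ha => (commute_Z (.refl t) ha).symm)
      fun a ha => mul_mem ha ha
    obtain ⟨hc, o, P, σ, τ, dd⟩ := psl7
    exact D'.all F o (D'.dd_conj F o hG dd hc) iu c

theorem one (hG : _root_.commutator G = ⊤) {u : G} (iu : In u) : IsConj t u := by
  by_contra hn
  obtain ⟨w, -, w1, w2, w3⟩ := Inv.exists_central_involution_of_not_isConj D.tt iu.1 hn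
  obtain ⟨c, rfl⟩ := isConj_iff.1 (D.all hG (in_iff.2 w1) w2)
  refine hn ((D.all hG (iu.map (r c⁻¹)) ?_).trans (isConj_r _ _).symm)
  rw [← r_commute c, r_r_inv]
  exact w3.symm

theorem six : orderOf (g * t) = 6 ∧ centralizer ({g * t} : Set G) = zpowers (g * t) := by
  have h1 : orderOf (g * t) = 6 := by
    rw [D.gt.orderOf_mul_eq_mul_orderOf_of_coprime (by rw [D.sx.ox, in_iff.1 D.sx.iz]; norm_num),
      D.sx.ox, in_iff.1 D.sx.iz]
  have h2 : (g * t) ^ 3 = t := by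
    rw [D.gt.mul_pow, D.g3, one_mul, pow_three, D.tt, mul_one]
  have h3 : (g * t) ^ 4 = g := by
    rw [pow_succ, h2, D.gt.eq, ← mul_assoc, D.tt, one_mul]
  have h4 : t ∈ zpowers (g * t) := by
    have := pow_mem (mem_zpowers (g * t)) 3
    rwa [h2] at this
  have h5 : zpowers g ≤ zpowers (g * t) := zpowers_le.2 (by
    have := pow_mem (mem_zpowers (g * t)) 4
    rwa [h3] at this)
  refine ⟨h1, le_antisymm (fun x hx => ?_) (zpowers_le.2 (mC (.refl _)))⟩
  have c := cC ⟨x, hx⟩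
  rcases D.sx.cen x (h2 ▸ c.pow_right 3) (h3 ▸ c.pow_right 4) with h | h
  · exact h5 h
  · exact (mul_mem_cancel_right h4).1 (h5 h)

end Dat

end Cfsg.Agent.N16
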